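import Cfsg.Agent.H32.ExactSieve

/-!
Commuting pairs of Sylow subgroups of prime order, and elementary facts about involutions
commuting with them.
-/

set_option autoImplicit false

namespace H19.J1Order

open Subgroup H32.ExactSieve
open scoped Pointwise

variable {G : Type*} [Group G] [Finite G] {p q : ℕ} [Fact p.Prime] [Fact q.Prime]

/-- The Sylow `q`-subgroups centralising `P`. -/
abbrev Partners (q : ℕ) (P : Sylow p G) : Type _ :=
  {Q : Sylow q G // (Q : Subgroup G) ≤ centralizer ((P : Subgroup G) : Set G)}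

theorem card_sylow_of_le {k c : ℕ} (hg : Facts G q k c) (C : Subgroup G) (h : q ∣ Nat.card C)
    (R : Sylow q C) : Nat.card (R : Subgroup C) = q := by
  refine ((Nat.dvd_prime (Fact.out : q.Prime)).mp ?_).resolve_left fun h1 =>
    R.ne_bot_of_dvd_card h (Subgroup.card_eq_one.mp h1)
  obtain ⟨Q, hQ⟩ := (R.isPGroup'.map C.subtype).exists_le_sylow
  rw [← Subgroup.card_map_of_injective C.subtype_injective]
  exact (Subgroup.card_dvd_of_le hQ).trans (hg.card_P Q).dvd

theorem card_partners {k c : ℕ} (hg : Facts G q k c) (P : Sylow p G)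
    (h : q ∣ Nat.card (centralizer ((P : Subgroup G) : Set G))) :
    Nat.card (Partners q P) = Nat.card (Sylow q (centralizer ((P : Subgroup G) : Set G))) := by
  refine Nat.card_congr (Equiv.ofBijective (fun Q => Q.1.subtype Q.2) ⟨?_, ?_⟩)
  · intro A B hAB
    exact Subtype.ext (Sylow.subtype_injective hAB)
  · intro R
    obtain ⟨Q, hQ⟩ := (R.isPGroup'.map (centralizer ((P : Subgroup G) : Set G)).subtype).exists_le_sylow
    have he : (R : Subgroup (centralizer ((P : Subgroup G) : Set G))).map (centralizer ((P : Subgroup G) : Set G)).subtype = (Q : Subgroup G) :=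
      Subgroup.eq_of_le_of_card_ge hQ (by
        rw [hg.card_P Q, Subgroup.card_map_of_injective (Subgroup.subtype_injective _),
          card_sylow_of_le hg (centralizer ((P : Subgroup G) : Set G)) h R])
    refine ⟨⟨Q, he ▸ Subgroup.map_subtype_le _⟩, Sylow.ext ?_⟩
    show ((Q : Subgroup G)).subgroupOf _ = (R : Subgroup (centralizer ((P : Subgroup G) : Set G)))
    rw [← he]; exact Subgroup.comap_map_eq_self_of_injective (Subgroup.subtype_injective _) _

theorem le_centralizer_smul {Q : Sylow q G} {P : Sylow p G} (g : G)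
    (h : (Q : Subgroup G) ≤ centralizer ((P : Subgroup G) : Set G)) :
    ((g • Q : Sylow q G) : Subgroup G) ≤
      centralizer (((g • P : Sylow p G) : Subgroup G) : Set G) := by
  intro x hx
  rw [Sylow.coe_subgroup_smul, Subgroup.mem_pointwise_smul_iff_inv_smul_mem] at hx
  have hx' : g⁻¹ * x * g ∈ (Q : Subgroup G) := by simpa [MulAut.smul_def] using hx
  rw [Subgroup.mem_centralizer_iff]
  intro y hy
  rw [SetLike.mem_coe, Sylow.coe_subgroup_smul, Subgroup.mem_pointwise_smul_iff_inv_smul_mem] at hy
  have hy' : g⁻¹ * y * g ∈ (P : Subgroup G) := by simpa [MulAut.smul_def] using hy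
  have := Subgroup.mem_centralizer_iff.mp (h hx') _ hy'
  calc y * x = g * ((g⁻¹ * y * g) * (g⁻¹ * x * g)) * g⁻¹ := by group
    _ = g * ((g⁻¹ * x * g) * (g⁻¹ * y * g)) * g⁻¹ := by rw [this]
    _ = x * y := by group

theorem card_partners_smul (g : G) (P : Sylow p G) :
    Nat.card (Partners q (g • P)) = Nat.card (Partners q P) := by
  refine Nat.card_congr
    { toFun := fun Q => ⟨g⁻¹ • Q.1, by simpa using le_centralizer_smul g⁻¹ Q.2⟩
      invFun := fun Q => ⟨g • Q.1, le_centralizer_smul g Q.2⟩
      left_inv := fun Q => Subtype.ext (by simp)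
      right_inv := fun Q => Subtype.ext (by simp) }

/-- The number `a` of partners of `P` satisfies `p * q * a ∣ |C(P)|`. -/
theorem partners_facts {k c k' c' : ℕ} (hf : Facts G p k c) (hg : Facts G q k' c') (hpq : p ≠ q)
    (h : q ∣ c) (P : Sylow p G) :
    p * q * Nat.card (Partners q P) ∣ c ∧ Nat.card (Partners q P) % q = 1 := by
  rw [← hf.card_C P] at h
  rw [card_partners hg P h]
  refine ⟨?_, H62.card_sylow_mod⟩
  set C := centralizer ((P : Subgroup G) : Set G) with hC
  set R : Sylow q C := default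
  rw [← hf.card_C P, ← hC, ← H62.card_normalizer_mul R]
  refine Nat.mul_dvd_mul_right (((Nat.coprime_primes Fact.out Fact.out).mpr hpq).mul_dvd_of_dvd_of_dvd
    ?_ ?_) _
  · have hzC : (P : Subgroup G).subgroupOf C ≤ normalizer ((R : Subgroup C) : Set C) := by
      refine le_trans ?_ (Subgroup.center_le_normalizer _)
      intro x hx
      rw [Subgroup.mem_center_iff]
      intro y
      apply Subtype.ext
      exact ((Subgroup.mem_centralizer_iff.mp y.2) _ hx).symm
    refine dvd_trans ?_ (Subgroup.card_dvd_of_le hzC)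
    rw [Nat.card_congr
      (Subgroup.subgroupOfEquivOfLe (le_centralizer_self P (hf.card_P P))).toEquiv, hf.card_P P]
  · conv_lhs => rw [← card_sylow_of_le hg C h R]
    exact Subgroup.card_dvd_of_le (R : Subgroup C).le_normalizer

/-- Double counting of commuting pairs of Sylow subgroups of prime orders. -/
theorem exists_pair_count {k c k' c' : ℕ} (hf : Facts G p k c) (hg : Facts G q k' c')
    (hpq : p ≠ q) (h : q ∣ c) :
    ∃ a b, p * q * a ∣ c ∧ a % q = 1 ∧ q * p * b ∣ c' ∧ b % p = 1 ∧ k * a = k' * b := by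
  classical
  have h' : p ∣ c' := centralizer_dvd_symm hf hg h
  set P₀ : Sylow p G := default
  set Q₀ : Sylow q G := default
  refine ⟨Nat.card (Partners q P₀), Nat.card (Partners p Q₀), (partners_facts hf hg hpq h P₀).1,
    (partners_facts hf hg hpq h P₀).2, (partners_facts hg hf hpq.symm h' Q₀).1,
    (partners_facts hg hf hpq.symm h' Q₀).2, ?_⟩
  have hP : ∀ P : Sylow p G, Nat.card (Partners q P) = Nat.card (Partners q P₀) := by
    intro P
    obtain ⟨g, rfl⟩ := MulAction.exists_smul_eq G P₀ P
    exact card_partners_smul g P₀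
  have hQ : ∀ Q : Sylow q G, Nat.card (Partners p Q) = Nat.card (Partners p Q₀) := by
    intro Q
    obtain ⟨g, rfl⟩ := MulAction.exists_smul_eq G Q₀ Q
    exact card_partners_smul g Q₀
  let A := {x : Sylow p G × Sylow q G //
    (x.2 : Subgroup G) ≤ centralizer ((x.1 : Subgroup G) : Set G)}
  have e1 : Nat.card A = k * Nat.card (Partners q P₀) := by
    rw [Nat.card_congr ({
        toFun := fun x => ⟨x.1.1, ⟨x.1.2, x.2⟩⟩
        invFun := fun y => ⟨(y.1, y.2.1), y.2.2⟩
        left_inv := fun x => rfl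
        right_inv := fun y => rfl } : A ≃ Σ P : Sylow p G, Partners q P)]
    have := Fintype.ofFinite (Sylow p G)
    rw [Nat.card_sigma, Finset.sum_congr rfl (fun P _ => hP P), Finset.sum_const, smul_eq_mul,
      Finset.card_univ, ← Nat.card_eq_fintype_card, hf.card_sylow]
  have e2 : Nat.card A = k' * Nat.card (Partners p Q₀) := by
    rw [Nat.card_congr ({
        toFun := fun x => ⟨x.1.2, ⟨x.1.1, Subgroup.le_centralizer_iff.mp x.2⟩⟩
        invFun := fun y => ⟨(y.2.1, y.1), Subgroup.le_centralizer_iff.mp y.2.2⟩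
        left_inv := fun x => rfl
        right_inv := fun y => rfl } : A ≃ Σ Q : Sylow q G, Partners p Q)]
    have := Fintype.ofFinite (Sylow q G)
    rw [Nat.card_sigma, Finset.sum_congr rfl (fun Q _ => hQ Q), Finset.sum_const, smul_eq_mul,
      Finset.card_univ, ← Nat.card_eq_fintype_card, hg.card_sylow]
  exact e1.symm.trans e2

/-- With a single partner `Q`, the normalizer of `P` normalizes `Q`. -/
theorem exists_partner_normalizer {k c k' c' : ℕ} (hf : Facts G p k c) (hg : Facts G q k' c')
    (hpq : p ≠ q) (h : q ∣ c)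
    (hforced : ∀ d, d ∣ c / (p * q) → d % q = 1 → d = 1) (P : Sylow p G) :
    ∃ Q : Sylow q G, (Q : Subgroup G) ≤ centralizer ((P : Subgroup G) : Set G) ∧
      normalizer ((P : Subgroup G) : Set G) ≤ normalizer ((Q : Subgroup G) : Set G) := by
  have hpf := partners_facts hf hg hpq h P
  have h1 : Nat.card (Partners q P) = 1 :=
    hforced _ (Nat.dvd_div_of_mul_dvd hpf.1) hpf.2
  obtain ⟨hs, ⟨Q⟩⟩ := Nat.card_eq_one_iff_unique.mp h1
  refine ⟨Q.1, Q.2, fun g hg' => ?_⟩
  have hgP : g • P = P := Sylow.smul_eq_iff_mem_normalizer.mpr hg'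
  have hgQ := le_centralizer_smul g Q.2
  rw [hgP] at hgQ
  exact Sylow.smul_eq_iff_mem_normalizer.mp
    (congrArg Subtype.val (Subsingleton.elim (⟨g • Q.1, hgQ⟩ : Partners q P) Q))

/-- An element of order `p` generates a Sylow subgroup. -/
theorem exists_sylow_zpowers {k c : ℕ} (hf : Facts G p k c) {y : G} (hy : orderOf y = p) :
    ∃ P : Sylow p G, (P : Subgroup G) = zpowers y := by
  obtain ⟨P, hP⟩ := (IsPGroup.of_card (p := p) (n := 1)
    (by rw [Nat.card_zpowers, hy, pow_one] : Nat.card (zpowers y) = p ^ 1)).exists_le_sylow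
  exact ⟨P, (Subgroup.eq_of_le_of_card_ge hP (by rw [hf.card_P P, Nat.card_zpowers, hy])).symm⟩

/-- An element commuting with an element of order `p` centralises a Sylow `p`-subgroup. -/
theorem exists_mem_centralizer {k c : ℕ} (hf : Facts G p k c) {u : G}
    (h : p ∣ Nat.card (centralizer ({u} : Set G))) :
    ∃ P : Sylow p G, u ∈ centralizer ((P : Subgroup G) : Set G) := by
  obtain ⟨y, hy⟩ := exists_prime_orderOf_dvd_card' p h
  obtain ⟨P, hP⟩ := exists_sylow_zpowers hf (y := (y : G)) (by rw [Subgroup.orderOf_coe, hy])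
  refine ⟨P, ?_⟩
  rw [hP, Subgroup.mem_centralizer_iff]
  intro w hw
  obtain ⟨i, rfl⟩ := Subgroup.mem_zpowers_iff.mp hw
  exact ((show Commute (y : G) u from Subgroup.mem_centralizer_singleton_iff.mp y.2).zpow_left i).eq

/-- If `p` divides the order of the centraliser of an involution then `|C(P)|` is even. -/
theorem two_dvd_of_dvd {k c : ℕ} (hf : Facts G p k c) {u : G} (hu : orderOf u = 2)
    (h : p ∣ Nat.card (centralizer ({u} : Set G))) : 2 ∣ c := by
  obtain ⟨P, hP⟩ := exists_mem_centralizer hf h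
  rw [← hf.card_C P, ← hu]
  have := orderOf_dvd_natCard (⟨u, hP⟩ : centralizer ((P : Subgroup G) : Set G))
  rwa [← Subgroup.orderOf_coe] at this

/-- `|H| = |H ⊓ N(P)| * n_p(H)` for a Sylow subgroup `P` inside `H`. -/
theorem card_inf_normalizer_mul (H : Subgroup G) (P : Sylow p G) (hPH : (P : Subgroup G) ≤ H) :
    Nat.card ((normalizer ((P : Subgroup G) : Set G)) ⊓ H : Subgroup G) * Nat.card (Sylow p H) =
      Nat.card H := by
  rw [← H62.card_normalizer_mul (P.subtype hPH)]
  congr 1
  rw [Sylow.coe_subtype, ← Subgroup.subgroupOf_normalizer_eq hPH, ← Subgroup.inf_subgroupOf_right,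
    Nat.card_congr (Subgroup.subgroupOfEquivOfLe inf_le_right).toEquiv]

end H19.J1Order
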