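import Cfsg.Agent.H19.J1Order.Config

/-!
The three configurations left by the sieve: only the one of the smallest Janko group survives,
with an involution centraliser of order 120.
-/

set_option autoImplicit false

namespace H19.J1Order

open Subgroup H32.ExactSieve

variable {G : Type*} [Group G] [Finite G] [Fact (Nat.Prime 2)]

theorem card_normalizer_eq {p k c : ℕ} [Fact p.Prime] (hn : Nat.card G = 175560) (hf : Facts G p k c)
    (P : Sylow p G) : Nat.card (normalizer ((P : Subgroup G) : Set G)) = 175560 / k := by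
  have h := H62.card_normalizer_mul P
  rw [hf.card_sylow, hn] at h
  rw [← h, Nat.mul_div_cancel _ (hf.card_sylow ▸ Nat.card_pos)]

theorem card_centralizer_conj {u t : G} (h : IsConj u t) :
    Nat.card (centralizer ({u} : Set G)) = Nat.card (centralizer ({t} : Set G)) := by
  have h1 := H65.card_class_mul u
  have h2 := H65.card_class_mul t
  have he : Nat.card {g : G // IsConj u g} = Nat.card {g : G // IsConj t g} :=
    Nat.card_congr (Equiv.subtypeEquivRight fun g => ⟨fun hg => h.symm.trans hg, fun hg => h.trans hg⟩)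
  rw [← he, ← h1] at h2
  have : Nonempty {g : G // IsConj u g} := ⟨⟨u, IsConj.refl u⟩⟩
  exact (Nat.eq_of_mul_eq_mul_left Nat.card_pos h2).symm

/-- An involution commuting with a conjugate of `P` is conjugate to the only involution of `C(P)`. -/
theorem isConj_of_dvd {p k c : ℕ} [Fact p.Prime] (hf : Facts G p k c) (P : Sylow p G) {t : G}
    (huniq : ∀ u ∈ centralizer ((P : Subgroup G) : Set G), orderOf u = 2 → u = t) {u : G}
    (hu : orderOf u = 2) (h : p ∣ Nat.card (centralizer ({u} : Set G))) : IsConj u t := by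
  obtain ⟨P', hP'⟩ := exists_mem_centralizer hf h
  obtain ⟨g, hg⟩ := MulAction.exists_smul_eq G P' P
  refine isConj_iff.mpr ⟨g, huniq _ ?_ ?_⟩
  · rw [← hg, Subgroup.mem_centralizer_iff]
    intro y hy
    rw [SetLike.mem_coe, Sylow.coe_subgroup_smul] at hy
    have hy' : g⁻¹ * y * g ∈ (P' : Subgroup G) := by
      have := Subgroup.mem_pointwise_smul_iff_inv_smul_mem.mp hy
      simpa [MulAut.smul_def] using this
    have := Subgroup.mem_centralizer_iff.mp hP' _ hy'
    calc y * (g * u * g⁻¹) = g * ((g⁻¹ * y * g) * u) * g⁻¹ := by group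
      _ = g * (u * (g⁻¹ * y * g)) * g⁻¹ := by rw [this]
      _ = g * u * g⁻¹ * y := by group
  · rw [show g * u * g⁻¹ = MulAut.conj g u from rfl, MulEquiv.orderOf_eq, hu]

theorem dvd_twentyfour {S : Cfg} (hS : Data G S)
    (he : S = ⟨(1540, 19), (1596, 11), (4180, 7), (2926, 15), (2926, 30)⟩) {u : G} (hu : orderOf u = 2) :
    Nat.card (centralizer ({u} : Set G)) ∣ 24 := by
  obtain ⟨hmem, hc⟩ := cond_centralizer hS hu
  subst he
  have hall : (dlist.all fun x =>
      !((⟨(1540, 19), (1596, 11), (4180, 7), (2926, 15), (2926, 30)⟩ : Cfg).cond x) || 24 % x == 0) = true := by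
    decide +kernel
  have := List.all_eq_true.mp hall _ hmem
  rw [hc] at this
  exact Nat.dvd_of_mod_eq_zero (by simpa using this)

/-- No involution-free centraliser of order fifteen. -/
theorem false_fifteen {S : Cfg} (hS : Data G S)
    (he : S = ⟨(1540, 19), (1596, 11), (4180, 7), (2926, 15), (2926, 30)⟩) : False := by
  have hn := hS.card_eq
  have h24 := fun (u : G) (hu : orderOf u = 2) => dvd_twentyfour hS he hu
  have f5 : Facts G 5 2926 15 := by have := hS.f5; rw [he] at this; exact this
  have f3 : Facts G 3 2926 30 := by have := hS.f3; rw [he] at this; exact this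
  set P : Sylow 5 G := default
  obtain ⟨Q, hQC, hNle⟩ := exists_partner_normalizer f5 f3 (by norm_num) (by norm_num)
    (fun d hd _ => Nat.dvd_one.mp (by simpa using hd)) P
  set N := normalizer ((P : Subgroup G) : Set G) with hN
  have hNc : Nat.card N = 60 := by rw [hN, card_normalizer_eq hn f5 P]
  have hNQc : Nat.card (normalizer ((Q : Subgroup G) : Set G)) = 60 := by
    rw [card_normalizer_eq hn f3 Q]
  have hNeq : N = normalizer ((Q : Subgroup G) : Set G) :=
    Subgroup.eq_of_le_of_card_ge hNle (by rw [hNc, hNQc])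
  -- a cyclic subgroup of order four
  obtain ⟨W₀, hW₀⟩ := Sylow.exists_subgroup_card_pow_prime (G := N) 2 (n := 2) (by rw [hNc]; norm_num)
  set W := W₀.map N.subtype with hW
  have hWc : Nat.card W = 4 := by
    rw [hW, Subgroup.card_map_of_injective N.subtype_injective, hW₀]; norm_num
  have hWN : W ≤ N := Subgroup.map_subtype_le _
  have hWC : W ⊓ centralizer ((P : Subgroup G) : Set G) = ⊥ :=
    Subgroup.inf_eq_bot_of_coprime (by rw [hWc, f5.card_C P]; norm_num)
  have : IsCyclic (P : Subgroup G) := isCyclic_of_prime_card (f5.card_P P)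
  have : IsCyclic (MulAut (P : Subgroup G)) := by
    have : Nat.card (P : Subgroup G) = 5 := f5.card_P P
    have e := IsCyclic.mulAutMulEquiv (P : Subgroup G)
    rw [this] at e
    exact isCyclic_of_surjective e.symm e.symm.surjective
  let φ : W →* MulAut (P : Subgroup G) :=
    (P : Subgroup G).normalizerMonoidHom.comp (Subgroup.inclusion hWN)
  have hφ : Function.Injective φ := by
    rw [injective_iff_map_eq_one]
    intro x hx
    have hxC : (x : G) ∈ centralizer ((P : Subgroup G) : Set G) := by
      have h := MonoidHom.mem_ker.mpr (show (P : Subgroup G).normalizerMonoidHom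
        (Subgroup.inclusion hWN x) = 1 from hx)
      rw [Subgroup.normalizerMonoidHom_ker, Subgroup.mem_subgroupOf] at h
      exact h
    exact Subtype.ext (Subgroup.mem_bot.mp (hWC ▸ ⟨x.2, hxC⟩))
  have : IsCyclic W := isCyclic_of_injective φ hφ
  obtain ⟨w₀, hw₀⟩ := IsCyclic.exists_ofOrder_eq_natCard (α := W)
  set w : G := (w₀ : G) with hwdef
  have hwo : orderOf w = 4 := by rw [hwdef, Subgroup.orderOf_coe, hw₀, hWc]
  set t := w ^ 2 with htdef
  have ht : orderOf t = 2 := by
    rw [htdef, orderOf_pow' w (by norm_num), hwo]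
    norm_num
  have hwN : w ∈ normalizer ((Q : Subgroup G) : Set G) := hNeq ▸ hWN w₀.2
  -- `t` centralises `Q`
  have hidx : ((centralizer ((Q : Subgroup G) : Set G)).subgroupOf
      (normalizer ((Q : Subgroup G) : Set G))).index = 2 := by
    have h := Subgroup.card_mul_index ((centralizer ((Q : Subgroup G) : Set G)).subgroupOf
      (normalizer ((Q : Subgroup G) : Set G)))
    rw [Nat.card_congr (Subgroup.subgroupOfEquivOfLe (Subgroup.centralizer_le_normalizer _)).toEquiv,
      f3.card_C Q, hNQc] at h
    omega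
  have htC : t ∈ centralizer ((Q : Subgroup G) : Set G) :=
    Subgroup.sq_mem_of_index_two hidx (⟨w, hwN⟩ : normalizer ((Q : Subgroup G) : Set G))
  set X := centralizer ({t} : Set G) with hX
  have hwX : w ∈ X := by
    rw [hX, Subgroup.mem_centralizer_singleton_iff, htdef]
    exact (Commute.self_pow w 2).eq
  have hQX : (Q : Subgroup G) ≤ X := fun x hx => by
    rw [hX, Subgroup.mem_centralizer_singleton_iff]
    exact (Subgroup.mem_centralizer_iff.mp htC x hx)
  -- eight divides the order of the centraliser
  obtain ⟨T, hT⟩ := (IsPGroup.of_card (p := 2) (n := 2)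
    (by rw [Nat.card_zpowers, hwo]; norm_num : Nat.card (zpowers w) = 2 ^ 2)).exists_le_sylow
  have hTc : Nat.card (T : Subgroup G) = 8 := by
    rw [H62.card_sylow_coe (a := 3) (m := 21945) (hn.trans (by norm_num)) (by norm_num) T]; norm_num
  have hTN : (T : Subgroup G) ≤ normalizer ((zpowers w : Subgroup G) : Set G) := by
    refine H62.le_normalizer_of_index T.isPGroup' hT ?_
    have h := Subgroup.card_mul_index ((zpowers w).subgroupOf (T : Subgroup G))
    rw [Nat.card_congr (Subgroup.subgroupOfEquivOfLe hT).toEquiv, Nat.card_zpowers, hwo, hTc] at h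
    omega
  have hTX : (T : Subgroup G) ≤ X := by
    intro s hs
    have h1 := (Subgroup.mem_normalizer_iff.mp (hTN hs) w).mp (Subgroup.mem_zpowers w)
    obtain ⟨i, hi⟩ := Subgroup.mem_zpowers_iff.mp h1
    have h2 : s * t * s⁻¹ = t ^ i := by
      rw [htdef, ← conj_pow, ← hi, ← zpow_natCast (w ^ i), ← zpow_natCast w 2, ← zpow_mul, ← zpow_mul,
        mul_comm]
    have hne : s * t * s⁻¹ ≠ 1 := fun h => by
      rw [conj_eq_one_iff] at h
      rw [h, orderOf_one] at ht
      omega
    have := eq_of_mem_zpowers_two ht (u := s * t * s⁻¹) (h2 ▸ zpow_mem (Subgroup.mem_zpowers t) i) hne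
    rw [hX, Subgroup.mem_centralizer_singleton_iff]
    exact mul_inv_eq_iff_eq_mul.mp this
  have h8X : 8 ∣ Nat.card X := hTc ▸ Subgroup.card_dvd_of_le hTX
  have h3X : 3 ∣ Nat.card X := f3.card_P Q ▸ Subgroup.card_dvd_of_le hQX
  have hX24 : Nat.card X = 24 :=
    Nat.dvd_antisymm (h24 t ht) (Nat.Coprime.mul_dvd_of_dvd_of_dvd (by norm_num : Nat.Coprime 8 3) h8X h3X)
  set Y := normalizer ((Q : Subgroup G) : Set G) ⊓ X with hY
  have hmul : Nat.card Y * Nat.card (Sylow 3 X) = 24 := by
    rw [hY, card_inf_normalizer_mul X Q hQX, hX24]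
  have h4Y : 4 ∣ Nat.card Y := by
    have hwY : w ∈ Y := ⟨hwN, hwX⟩
    have h := orderOf_dvd_natCard (⟨w, hwY⟩ : Y)
    rw [Subgroup.orderOf_mk, hwo] at h
    exact h
  have h3Y : 3 ∣ Nat.card Y :=
    f3.card_P Q ▸ Subgroup.card_dvd_of_le (le_inf Subgroup.le_normalizer hQX)
  have h12 : 12 ∣ Nat.card Y := Nat.Coprime.mul_dvd_of_dvd_of_dvd (by norm_num : Nat.Coprime 4 3) h4Y h3Y
  have h60 : Nat.card Y ∣ 60 := hNQc ▸ Subgroup.card_dvd_of_le inf_le_left
  have hm := H62.card_sylow_mod (G := X) (p := 3)
  have hY24 : Nat.card Y ∣ 24 := ⟨_, hmul.symm⟩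
  have hle : Nat.card Y ≤ 24 := Nat.le_of_dvd (by norm_num) hY24
  obtain ⟨j, hj⟩ := h12
  rw [hj] at hmul h60 hle
  have hj2 : j = 1 ∨ j = 2 := by
    have : 0 < j := Nat.pos_of_ne_zero (by rintro rfl; simp at hmul)
    omega
  rcases hj2 with rfl | rfl <;> omega

/-- The normalizers of `P` of order three and of a partner of order five coincide. -/
theorem exists_partner_five (hn : Nat.card G = 175560) (f5 : Facts G 5 2926 30)
    (f3 : Facts G 3 2926 30) (P : Sylow 3 G) :
    ∃ Q : Sylow 5 G, (Q : Subgroup G) ≤ centralizer ((P : Subgroup G) : Set G) ∧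
      normalizer ((Q : Subgroup G) : Set G) = normalizer ((P : Subgroup G) : Set G) := by
  obtain ⟨Q, hQC, hNle⟩ := exists_partner_normalizer f3 f5 (by norm_num) (by norm_num)
    (fun d hd hm => by
      have := Nat.le_of_dvd (by norm_num) hd
      omega) P
  exact ⟨Q, hQC, (Subgroup.eq_of_le_of_card_ge hNle
    (by rw [card_normalizer_eq hn f5 Q, card_normalizer_eq hn f3 P])).symm⟩

/-- The case of a single involution in `C(P)`: all involutions seeing five have centraliser of
order sixty. -/
theorem single_involution {S : Cfg} (hS : Data G S) (hd : S.d = (2926, 30)) (he : S.e = (2926, 30))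
    (hcond : ∀ x ∈ dlist, S.cond x = true → 1320 % x = 0) (P : Sylow 3 G)
    (h1 : Nat.card (Sylow 2 (centralizer ((P : Subgroup G) : Set G))) = 1) :
    ∃ t : G, orderOf t = 2 ∧ Nat.card (centralizer ({t} : Set G)) = 60 ∧
      ∀ u : G, orderOf u = 2 →
        (3 ∣ Nat.card (centralizer ({u} : Set G)) ∨ 5 ∣ Nat.card (centralizer ({u} : Set G))) →
        Nat.card (centralizer ({u} : Set G)) = 60 := by
  have hn := hS.card_eq
  have f5 : Facts G 5 2926 30 := by have := hS.f5; rw [hd] at this; exact this
  have f3 : Facts G 3 2926 30 := by have := hS.f3; rw [he] at this; exact this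
  obtain ⟨t, ht, htC, huniq, hN⟩ := exists_fixed_involution (P : Subgroup G)
    (by rw [f3.card_C P]) h1
  obtain ⟨Q, hQC, hNeq⟩ := exists_partner_five hn f5 f3 P
  set X := centralizer ({t} : Set G) with hX
  have hPX : (P : Subgroup G) ≤ X := Subgroup.le_normalizer.trans hN
  have hQX : (Q : Subgroup G) ≤ X := Subgroup.le_normalizer.trans (hNeq.le.trans hN)
  have hm3 := card_inf_normalizer_mul X P hPX
  have hm5 := card_inf_normalizer_mul X Q hQX
  rw [inf_eq_left.mpr hN, card_normalizer_eq hn f3 P] at hm3
  rw [hNeq, inf_eq_left.mpr hN, card_normalizer_eq hn f3 P] at hm5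
  have hj : Nat.card (Sylow 5 X) = Nat.card (Sylow 3 X) := by omega
  have h35 := H62.card_sylow_mod (G := X) (p := 5)
  have h33 := H62.card_sylow_mod (G := X) (p := 3)
  obtain ⟨hmem, hc⟩ := cond_centralizer hS ht
  have hdvd := Nat.dvd_of_mod_eq_zero (hcond _ hmem hc)
  have hX60 : Nat.card X = 60 := by
    rw [hX] at hm3 hj h35 h33 ⊢
    rw [← hm3] at hdvd
    have h22 : Nat.card (Sylow 3 (centralizer ({t} : Set G))) ∣ 22 :=
      Nat.dvd_of_mul_dvd_mul_left (by norm_num : 0 < 60) (by simpa using hdvd)
    have hle := Nat.le_of_dvd (by norm_num) h22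
    rw [← hm3]
    have : Nat.card (Sylow 3 (centralizer ({t} : Set G))) = 1 := by
      rw [hj] at h35
      generalize Nat.card (Sylow 3 (centralizer ({t} : Set G))) = j at h22 hle h35 h33
      interval_cases j <;> omega
    omega
  -- `C(Q) = C(P)`
  set I := centralizer ((P : Subgroup G) : Set G) ⊓ centralizer ((Q : Subgroup G) : Set G) with hI
  have hIP : (P : Subgroup G) ≤ I :=
    le_inf (le_centralizer_self P (f3.card_P P)) (Subgroup.le_centralizer_iff.mp hQC)
  have hIQ : (Q : Subgroup G) ≤ I := le_inf hQC (le_centralizer_self Q (f5.card_P Q))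
  have hIt : t ∈ I := ⟨htC, by
    show t ∈ centralizer ((Q : Subgroup G) : Set G)
    rw [Subgroup.mem_centralizer_iff]
    intro y hy
    exact Subgroup.mem_centralizer_singleton_iff.mp (hQX hy)⟩
  have h30 : 30 ∣ Nat.card I := by
    have a3 : 3 ∣ Nat.card I := f3.card_P P ▸ Subgroup.card_dvd_of_le hIP
    have a5 : 5 ∣ Nat.card I := f5.card_P Q ▸ Subgroup.card_dvd_of_le hIQ
    have a2 : 2 ∣ Nat.card I := by
      have h := orderOf_dvd_natCard (⟨t, hIt⟩ : I)
      rwa [Subgroup.orderOf_mk, ht] at h
    omega
  have hIle : 30 ≤ Nat.card I := Nat.le_of_dvd Nat.card_pos h30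
  have hCeq : centralizer ((Q : Subgroup G) : Set G) = centralizer ((P : Subgroup G) : Set G) :=
    ((Subgroup.eq_of_le_of_card_ge inf_le_right (by rw [f5.card_C Q]; exact hIle)).symm.trans
      (Subgroup.eq_of_le_of_card_ge inf_le_left (by rw [f3.card_C P]; exact hIle)))
  refine ⟨t, ht, hX60, fun u hu h => ?_⟩
  rw [← hX60]
  refine card_centralizer_conj ?_
  rcases h with h | h
  · exact isConj_of_dvd f3 P huniq hu h
  · exact isConj_of_dvd f5 Q (hCeq ▸ huniq) hu h

/-- Without a central involution in `C(P)` there are six solutions of `y² = 1`. -/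
theorem six_of_ne_one (f3 : Facts G 3 2926 30) (P : Sylow 3 G)
    (h1 : Nat.card (Sylow 2 (centralizer ((P : Subgroup G) : Set G))) ≠ 1) :
    6 ≤ Nat.card {y : centralizer ((P : Subgroup G) : Set G) // y ^ 2 = 1} := by
  have h4 : Nat.card (centralizer ((P : Subgroup G) : Set G)) % 4 = 2 := by rw [f3.card_C P]
  have hdvd := card_sylow_two_centralizer f3 (by norm_num) P (by norm_num)
  have h5 : Nat.card (Sylow 2 (centralizer ((P : Subgroup G) : Set G))) ∣ 5 :=
    Nat.dvd_of_mul_dvd_mul_left (by norm_num : 0 < 6) (by simpa using hdvd)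
  have := card_sylow_two_lt (C := centralizer ((P : Subgroup G) : Set G)) h4
  rcases (Nat.dvd_prime (by norm_num : Nat.Prime 5)).mp h5 with h5 | h5
  · exact absurd h5 h1
  · omega

/-- The four lower layers. -/
theorem two_elts_le {S : Cfg} (hS : Data G S) (a b c d : ℕ)
    (h : S.a.1 * 18 * (S.a.2 / 19) = a ∧ S.b.1 * 10 * S.mb = b ∧ S.c.1 * 6 * S.mc = c ∧
      S.d.1 * 4 * S.md = d) (m : ℕ)
    (hm : m ≤ Nat.card {g : G // InLayer 3 [19, 11, 7, 5] g}) :
    a + b + c + d + m + Nat.card (TwoElts G) ≤ 175560 := by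
  have h19 := layer_nineteen hS
  have h11 := layer_eleven hS
  have h7 := layer_seven hS
  have h5 := layer_five hS
  have := layers_le hS
  omega

theorem six_layer {S : Cfg} (hS : Data G S) (he : S.e = (2926, 30))
    (h1 : ∀ P : Sylow 3 G, Nat.card (Sylow 2 (centralizer ((P : Subgroup G) : Set G))) ≠ 1) :
    35112 ≤ Nat.card {g : G // InLayer 3 [19, 11, 7, 5] g} := by
  have f3 : Facts G 3 2926 30 := by have := hS.f3; rw [he] at this; exact this
  exact card_layer_squares f3 [19, 11, 7, 5]
    (by intro r hr; fin_cases hr <;> norm_num) (by norm_num) (by norm_num) 6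
    (fun P => six_of_ne_one f3 P (h1 P))

/-- A second involution contradicts the centraliser of order sixty at eleven. -/
theorem false_eleven {S : Cfg} (hS : Data G S)
    (he : S = ⟨(1540, 19), (1596, 22), (4180, 7), (2926, 30), (2926, 30)⟩) : False := by
  have hn := hS.card_eq
  have f11 : Facts G 11 1596 22 := by have := hS.f11; rw [he] at this; exact this
  have f3 : Facts G 3 2926 30 := by have := hS.f3; rw [he] at this; exact this
  have hcond : ∀ x ∈ dlist, S.cond x = true → 1320 % x = 0 := by
    subst he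
    decide +kernel
  by_cases h1 : ∃ P : Sylow 3 G, Nat.card (Sylow 2 (centralizer ((P : Subgroup G) : Set G))) = 1
  · obtain ⟨P, h5⟩ := h1
    obtain ⟨t, ht, ht60, hsee⟩ :=
      single_involution hS (by rw [he]) (by rw [he]) hcond P h5
    set R : Sylow 11 G := default
    have hR4 : Nat.card (centralizer ((R : Subgroup G) : Set G)) % 4 = 2 := by rw [f11.card_C R]
    have hR1 : Nat.card (Sylow 2 (centralizer ((R : Subgroup G) : Set G))) = 1 := by
      have h := card_sylow_two_centralizer f11 (by norm_num) R (by norm_num)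
      exact Nat.dvd_one.mp (Nat.dvd_of_mul_dvd_mul_left (by norm_num : 0 < 22) (by simpa using h))
    obtain ⟨u, hu, -, -, huN⟩ := exists_fixed_involution (R : Subgroup G) hR4 hR1
    have hm := card_inf_normalizer_mul _ R (Subgroup.le_normalizer.trans huN)
    rw [inf_eq_left.mpr huN, card_normalizer_eq hn f11 R] at hm
    have h11 := H62.card_sylow_mod (G := centralizer ({u} : Set G)) (p := 11)
    have h4' := four_dvd_centralizer (g := u) (by rw [hn]; norm_num) hu
    obtain ⟨hmem, hc⟩ := cond_centralizer hS hu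
    have hall : (dlist.all fun x => !((1320 % x == 0) && (x % 110 == 0) && (x % 4 == 0) &&
        ((x / 110) % 11 == 1)) || (x == 1320)) = true := by decide +kernel
    have hd := List.all_eq_true.mp hall _ hmem
    have h110 : Nat.card (centralizer ({u} : Set G)) % 110 = 0 := by omega
    have hq : Nat.card (centralizer ({u} : Set G)) / 110 % 11 = 1 := by omega
    have h1320 : Nat.card (centralizer ({u} : Set G)) = 1320 := by
      simpa [hcond _ hmem hc, h110, Nat.mod_eq_zero_of_dvd h4', hq] using hd
    have := hsee u hu (Or.inr (by rw [h1320]; norm_num))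
    omega
  · push Not at h1
    have h := two_elts_le hS 27720 31920 25080 70224 (by subst he; decide) 35112
      (six_layer hS (by rw [he]) h1)
    omega

/-- In the configuration of the smallest Janko group there is a central involution with
centraliser of order 120, and all two-elements are involutions. -/
theorem exists_involution_120 {S : Cfg} (hS : Data G S)
    (he : S = ⟨(1540, 19), (1596, 11), (4180, 7), (2926, 30), (2926, 30)⟩) :
    ∃ (z : G) (T : Sylow 2 G), orderOf z = 2 ∧ z ∈ (T : Subgroup G) ∧
      (∀ x ∈ (T : Subgroup G), x * z = z * x) ∧ Nat.card (centralizer ({z} : Set G)) = 120 ∧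
      ∀ g : G, orderOf g ∣ 8 → g ^ 2 = 1 := by
  classical
  have hn := hS.card_eq
  have f3 : Facts G 3 2926 30 := by have := hS.f3; rw [he] at this; exact this
  have hcond : ∀ x ∈ dlist, S.cond x = true → 120 % x = 0 := by
    subst he
    decide +kernel
  have hcond' : ∀ x ∈ dlist, S.cond x = true → 1320 % x = 0 := by
    subst he
    decide +kernel
  obtain ⟨z, T, hz, hzT, hzc⟩ := exists_two_central (G := G) (by rw [hn]; norm_num)
  have h8 : 8 ∣ Nat.card (centralizer ({z} : Set G)) := by
    refine dvd_trans ?_ (Subgroup.card_dvd_of_le (fun x hx =>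
      Subgroup.mem_centralizer_singleton_iff.mpr (hzc x hx) :
        (T : Subgroup G) ≤ centralizer ({z} : Set G)))
    exact T.pow_dvd_card_of_pow_dvd_card (n := 3) (by rw [hn]; norm_num)
  obtain ⟨hmem, hc⟩ := cond_centralizer hS hz
  have hd120 := Nat.dvd_of_mod_eq_zero (hcond _ hmem hc)
  have hclass := H65.card_class_mul z
  rw [hn] at hclass
  by_cases h1 : ∃ P : Sylow 3 G, Nat.card (Sylow 2 (centralizer ((P : Subgroup G) : Set G))) = 1
  · -- one involution in `C(P)`: impossible
    exfalso
    obtain ⟨P, h5⟩ := h1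
    obtain ⟨t, ht, ht60, hsee⟩ := single_involution hS (by rw [he]) (by rw [he]) hcond' P h5
    have hz8 : Nat.card (centralizer ({z} : Set G)) = 8 := by
      have h3 : ¬ 3 ∣ Nat.card (centralizer ({z} : Set G)) := fun h => by
        have := hsee z hz (Or.inl h); omega
      have h5' : ¬ 5 ∣ Nat.card (centralizer ({z} : Set G)) := fun h => by
        have := hsee z hz (Or.inr h); omega
      obtain ⟨j, hj⟩ := h8
      rw [hj] at hd120 h3 h5' ⊢
      have hj15 : j ∣ 15 := Nat.dvd_of_mul_dvd_mul_left (by norm_num : 0 < 8) (by simpa using hd120)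
      have := Nat.le_of_dvd (by norm_num) hj15
      interval_cases j <;> omega
    have hclasst := H65.card_class_mul t
    rw [hn, ht60] at hclasst
    rw [hz8] at hclass
    have h3b : 11704 ≤ Nat.card {g : G // InLayer 3 [19, 11, 7, 5] g} := by
      have := card_layer_two f3 [19, 11, 7, 5] (by intro r hr; fin_cases hr <;> norm_num)
        (by norm_num) (by norm_num) 1 (by norm_num)
      omega
    have hle := two_elts_le hS 27720 15960 25080 70224 (by subst he; decide) 11704 h3b
    have hdis : ∀ g : G, IsConj z g → IsConj t g → False := fun g h h' => by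
      have := card_centralizer_conj (h.trans h'.symm)
      omega
    let F : ({g : G // IsConj z g} ⊕ {g : G // IsConj t g}) ⊕ PUnit.{1} → TwoElts G := Sum.elim
      (Sum.elim (fun g => ⟨g.1, by rw [class_mem_twoElts hz g.2]; norm_num⟩)
        (fun g => ⟨g.1, by rw [class_mem_twoElts ht g.2]; norm_num⟩))
      (fun _ => ⟨1, by simp⟩)
    have hF : Function.Injective F := by
      have hne : ∀ {u g : G}, orderOf u = 2 → IsConj u g → g ≠ 1 := fun hu h he' => by
        have := class_mem_twoElts hu h
        rw [he', orderOf_one] at this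
        omega
      refine ((Function.Injective.sumElim ?_ ?_ ?_).sumElim (fun _ _ _ => rfl) ?_)
      · exact fun a b h => Subtype.ext (congrArg (fun x : TwoElts G => x.1) h)
      · exact fun a b h => Subtype.ext (congrArg (fun x : TwoElts G => x.1) h)
      · exact fun a b h => hdis _ a.2 ((congrArg (fun x : TwoElts G => x.1) h) ▸ b.2)
      · rintro (a | a) _ h
        · exact hne hz a.2 (congrArg (fun x : TwoElts G => x.1) h)
        · exact hne ht a.2 (congrArg (fun x : TwoElts G => x.1) h)
    have hbij : Function.Bijective F := hF.bijective_of_nat_card_le (by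
      rw [Nat.card_sum, Nat.card_sum, Nat.card_unique (α := PUnit.{1})]
      omega)
    have hexp : ∀ g : G, orderOf g ∣ 8 → g ^ 2 = 1 := by
      intro g hg
      obtain ⟨x, hx⟩ := hbij.2 ⟨g, hg⟩
      have hv : g = (F x).1 := by rw [hx]
      rw [hv]
      rcases x with (a | a) | a
      · show a.1 ^ 2 = 1
        rw [← class_mem_twoElts hz a.2, pow_orderOf_eq_one]
      · show a.1 ^ 2 = 1
        rw [← class_mem_twoElts ht a.2, pow_orderOf_eq_one]
      · exact one_pow 2
    obtain ⟨T', hT'⟩ := (IsPGroup.of_card (p := 2) (n := 1)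
      (by rw [Nat.card_zpowers, ht, pow_one] : Nat.card (zpowers t) = 2 ^ 1)).exists_le_sylow
    have hT8 : Nat.card (T' : Subgroup G) = 8 := by
      rw [H62.card_sylow_coe (a := 3) (m := 21945) (hn.trans (by norm_num)) (by norm_num) T']; norm_num
    have hcomm : ∀ x ∈ (T' : Subgroup G), x * t = t * x := by
      intro x hx
      have hsq : ∀ y ∈ (T' : Subgroup G), y⁻¹ = y := fun y hy =>
        (eq_inv_of_mul_eq_one_left (by
          rw [← pow_two]
          refine hexp y ?_
          have h := orderOf_dvd_natCard (⟨y, hy⟩ : (T' : Subgroup G))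
          rwa [Subgroup.orderOf_mk, hT8] at h)).symm
      have htT : t ∈ (T' : Subgroup G) := hT' (Subgroup.mem_zpowers t)
      calc x * t = (x * t)⁻¹ := (hsq _ (mul_mem hx htT)).symm
        _ = t⁻¹ * x⁻¹ := mul_inv_rev x t
        _ = t * x := by rw [hsq x hx, hsq t htT]
    have := Subgroup.card_dvd_of_le (fun x hx => Subgroup.mem_centralizer_singleton_iff.mpr (hcomm x hx) :
      (T' : Subgroup G) ≤ centralizer ({t} : Set G))
    rw [hT8, ht60] at this
    exact absurd this (by norm_num)
  · push Not at h1
    have hle := two_elts_le hS 27720 15960 25080 70224 (by subst he; decide) 35112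
      (six_layer hS (by rw [he]) h1)
    have hz1 := class_add_one_le hz
    have hz120 : Nat.card (centralizer ({z} : Set G)) = 120 := by
      obtain ⟨j, hj⟩ := h8
      rw [hj] at hd120 hclass ⊢
      have hj15 : j ∣ 15 := Nat.dvd_of_mul_dvd_mul_left (by norm_num : 0 < 8) (by simpa using hd120)
      have := Nat.le_of_dvd (by norm_num) hj15
      interval_cases j <;> omega
    refine ⟨z, T, hz, hzT, hzc, hz120, ?_⟩
    let F : {g : G // IsConj z g} ⊕ PUnit.{1} → TwoElts G := Sum.elim
      (fun g => ⟨g.1, by rw [class_mem_twoElts hz g.2]; norm_num⟩) (fun _ => ⟨1, by simp⟩)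
    have hF : Function.Injective F := by
      refine Function.Injective.sumElim ?_ (fun _ _ _ => rfl) ?_
      · exact fun a b h => Subtype.ext (congrArg (fun x : TwoElts G => x.1) h)
      · intro a _ h
        have h' := class_mem_twoElts hz a.2
        rw [show a.1 = 1 from congrArg (fun x : TwoElts G => x.1) h, orderOf_one] at h'
        omega
    rw [hz120] at hclass
    have hbij : Function.Bijective F := hF.bijective_of_nat_card_le (by
      rw [Nat.card_sum, Nat.card_unique (α := PUnit.{1})]
      omega)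
    intro g hg
    obtain ⟨x, hx⟩ := hbij.2 ⟨g, hg⟩
    have hv : g = (F x).1 := by rw [hx]
    rw [hv]
    rcases x with a | a
    · show a.1 ^ 2 = 1
      rw [← class_mem_twoElts hz a.2, pow_orderOf_eq_one]
    · exact one_pow 2

end H19.J1Order
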