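import Cfsg.Prelude.Def_SporadicB
import Cfsg.Agent.H19.J1Order.Cases
import Cfsg.Agent.H32.SylowCount
import Cfsg.Agent.H59.A5Char

/-!
The involution centraliser of order 120 is the product of a group of order two and the
alternating group of degree five.
-/

set_option autoImplicit false

namespace H19.J1Order

open Subgroup H32.ExactSieve

theorem card_sylow_five_of_thirty {M : Type*} [Group M] [Finite M] (h : Nat.card M = 30) :
    Nat.card (Sylow 5 M) = 1 := by
  haveI : Fact (Nat.Prime 5) := ⟨by norm_num⟩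
  obtain ⟨K, hK⟩ := H65.exists_index_two_of_card_mod_four (G := M) (by omega)
  haveI : K.Normal := Subgroup.normal_of_index_eq_two hK
  have hKc : Nat.card K = 15 := by
    have h1 := K.card_mul_index
    rw [hK, h] at h1
    omega
  have hK5 : Nat.card (Sylow 5 K) = 1 := by
    have hd : Nat.card (Sylow 5 K) ∣ 3 :=
      H62.card_sylow_dvd (a := 1) (by rw [hKc]; norm_num) (by norm_num)
    have hm := H62.card_sylow_mod (G := K) (p := 5)
    rcases (Nat.dvd_prime (by norm_num : Nat.Prime 3)).mp hd with h' | h' <;> omega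
  set P : Sylow 5 M := default
  have hPc : Nat.card (P : Subgroup M) = 5 := by
    rw [H62.card_sylow_coe (a := 1) (m := 6) (by rw [h]; norm_num) (by norm_num) P, pow_one]
  have hPK : (P : Subgroup M) ≤ K := by
    intro x hx
    have hx5 : x ^ 5 = 1 := by
      have := orderOf_dvd_natCard (⟨x, hx⟩ : (P : Subgroup M))
      rw [Subgroup.orderOf_mk, hPc] at this
      exact orderOf_dvd_iff_pow_eq_one.mp this
    have h2 := Subgroup.sq_mem_of_index_two hK (x ^ 3)
    rwa [← pow_mul, show 3 * 2 = 5 + 1 by norm_num, pow_add, hx5, one_mul, pow_one] at h2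
  rw [H32.card_sylow_eq_mul_normalizer_inf P K, inf_eq_left.mpr hPK, hK5, one_mul]
  rw [H62.card_sylow_eq_one_iff (P.subtype Subgroup.le_normalizer), Subgroup.normalizer_eq_top_iff]
  exact Subgroup.normal_in_normalizer

theorem simple_of_six {K : Type*} [Group K] [Finite K] (h60 : Nat.card K = 60)
    (h6 : Nat.card (Sylow 5 K) = 6) : IsSimpleGroup K := by
  haveI : Fact (Nat.Prime 5) := ⟨by norm_num⟩
  haveI : Fact (Nat.Prime 3) := ⟨by norm_num⟩
  haveI : Nontrivial K := Finite.one_lt_card_iff_nontrivial.1 (by omega)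
  refine ⟨fun N hN => ?_⟩
  by_contra hcon
  push Not at hcon
  obtain ⟨hb, ht⟩ := hcon
  have hmul := N.card_mul_index
  rw [h60] at hmul
  have hN1 : 1 < Nat.card N := (Subgroup.one_lt_card_iff_ne_bot N).mpr hb
  have hi1 : 1 < N.index := H62.two_le_index ht
  have hP5 : ∀ P : Sylow 5 K, Nat.card (P : Subgroup K) = 5 := fun P => by
    rw [H62.card_sylow_coe (a := 1) (m := 12) (by rw [h60]; norm_num) (by norm_num) P, pow_one]
  set P : Sylow 5 K := default
  have hNP : Nat.card (normalizer ((P : Subgroup K) : Set K)) = 10 := by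
    have := H62.card_normalizer_mul P
    rw [h6, h60] at this
    omega
  by_cases h5 : 5 ∣ Nat.card N
  · -- all Sylow five-subgroups lie in `N`
    obtain ⟨x, hx⟩ := exists_prime_orderOf_dvd_card' 5 h5
    obtain ⟨Q, hQ⟩ := (IsPGroup.of_card (p := 5) (n := 1)
      (by rw [Nat.card_zpowers, Subgroup.orderOf_coe, hx, pow_one] :
        Nat.card (zpowers (x : K)) = 5 ^ 1)).exists_le_sylow
    have hQN : (Q : Subgroup K) ≤ N := by
      rw [← Subgroup.eq_of_le_of_card_ge hQ (by rw [hP5 Q, Nat.card_zpowers, Subgroup.orderOf_coe, hx])]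
      exact zpowers_le.2 x.2
    have hone : Nat.card (Sylow 5 (normalizer ((Q : Subgroup K) : Set K))) = 1 := by
      rw [H62.card_sylow_eq_one_iff (Q.subtype Subgroup.le_normalizer), Subgroup.normalizer_eq_top_iff]
      exact Subgroup.normal_in_normalizer
    have hN6 : Nat.card (Sylow 5 N) = 6 := by
      have h := H32.card_sylow_eq_mul_normalizer_inf Q N
      rw [inf_eq_left.mpr hQN, hone, mul_one, h6] at h
      exact h.symm
    obtain ⟨j, hj⟩ := h5
    have hjd : 6 ∣ j := hN6 ▸ H62.card_sylow_dvd (a := 1) (by rw [hj, pow_one]) (by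
      intro h
      have : 25 ∣ 60 := (Nat.mul_dvd_mul_left 5 h).trans ⟨N.index, by rw [← hj, hmul]⟩
      omega)
    have h30 : Nat.card N = 30 := by
      obtain ⟨l, rfl⟩ := hjd
      have : 30 * l * N.index = 60 := by rw [← hmul, hj]; ring
      have hl0 : 0 < l := Nat.pos_of_ne_zero (by rintro rfl; simp at this)
      have hl : l ≤ 1 := by
        by_contra hl
        have : 30 * 2 * 2 ≤ 30 * l * N.index := Nat.mul_le_mul (Nat.mul_le_mul_left 30 (by omega)) hi1
        omega
      omega
    have := card_sylow_five_of_thirty h30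
    omega
  · -- five does not divide `|N|`
    obtain ⟨j, hj⟩ : 5 ∣ N.index := by
      rcases (by norm_num : Nat.Prime 5).dvd_mul.mp (hmul.symm ▸ (by norm_num : 5 ∣ 60)) with h | h
      · exact absurd h h5
      · exact h
    have hquot : Nat.card (K ⧸ N) = 5 * j := by rw [← Subgroup.index_eq_card, hj]
    have hj12 : Nat.card N * j = 12 := by
      rw [hj] at hmul
      have : Nat.card N * j * 5 = 60 := by rw [← hmul]; ring
      omega
    have hjd : j ∣ 12 := ⟨Nat.card N, by rw [← hj12]; ring⟩
    have hj6 : j ≤ 6 := by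
      by_contra hlt
      have : 2 * 7 ≤ Nat.card N * j := Nat.mul_le_mul hN1 (not_le.mp hlt)
      omega
    have hn5 : Nat.card (Sylow 5 (K ⧸ N)) = 1 := by
      by_cases h30 : j = 6
      · exact card_sylow_five_of_thirty (by rw [hquot, h30])
      · have hd : Nat.card (Sylow 5 (K ⧸ N)) ∣ j :=
          H62.card_sylow_dvd (a := 1) (by rw [hquot, pow_one]) (fun h => by
            have := h.trans hjd; omega)
        have hm := H62.card_sylow_mod (G := K ⧸ N) (p := 5)
        have hj0 : 0 < j := Nat.pos_of_ne_zero (by rintro rfl; simp at hj12)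
        have := Nat.le_of_dvd hj0 hd
        omega
    have hq := H32.card_sylow_eq_mul_quotient P N
    rw [hn5, one_mul, h6] at hq
    have h3N : 3 ∣ Nat.card N :=
      (by norm_num : 3 ∣ 6).trans (hq ▸ Subgroup.relIndex_dvd_card _ N)
    -- a Sylow three-subgroup inside `N`
    obtain ⟨x, hx⟩ := exists_prime_orderOf_dvd_card' 3 h3N
    obtain ⟨R, hR⟩ := (IsPGroup.of_card (p := 3) (n := 1)
      (by rw [Nat.card_zpowers, Subgroup.orderOf_coe, hx, pow_one] :
        Nat.card (zpowers (x : K)) = 3 ^ 1)).exists_le_sylow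
    have hR3 : Nat.card (R : Subgroup K) = 3 := by
      rw [H62.card_sylow_coe (a := 1) (m := 20) (by rw [h60]; norm_num) (by norm_num) R, pow_one]
    have hRN : (R : Subgroup K) ≤ N := by
      rw [← Subgroup.eq_of_le_of_card_ge hR (by rw [hR3, Nat.card_zpowers, Subgroup.orderOf_coe, hx])]
      exact zpowers_le.2 x.2
    have hone : Nat.card (Sylow 3 (normalizer ((R : Subgroup K) : Set K))) = 1 := by
      rw [H62.card_sylow_eq_one_iff (R.subtype Subgroup.le_normalizer), Subgroup.normalizer_eq_top_iff]
      exact Subgroup.normal_in_normalizer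
    have hn3 := H32.card_sylow_eq_mul_normalizer_inf R N
    rw [inf_eq_left.mpr hRN, hone, mul_one] at hn3
    obtain ⟨i, hi⟩ := h3N
    have hi4 : i ∣ 4 := ⟨j, by rw [hi] at hj12; nlinarith⟩
    have hni : Nat.card (Sylow 3 N) ∣ i :=
      H62.card_sylow_dvd (a := 1) (by rw [hi, pow_one]) (fun h => by have := h.trans hi4; omega)
    have hnle : Nat.card (Sylow 3 K) ≤ 4 := hn3 ▸ Nat.le_of_dvd (by norm_num) (hni.trans hi4)
    have h5R : 5 ∣ Nat.card (normalizer ((R : Subgroup K) : Set K)) := by
      have hm := H62.card_normalizer_mul R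
      rw [h60] at hm
      rcases (by norm_num : Nat.Prime 5).dvd_mul.mp (hm.symm ▸ (by norm_num : 5 ∣ 60)) with h | h
      · exact h
      · have := Nat.le_of_dvd Nat.card_pos h
        omega
    have h5C : 5 ∣ Nat.card (centralizer ((R : Subgroup K) : Set K)) := by
      have hle := Subgroup.centralizer_le_normalizer ((R : Subgroup K) : Set K)
      have hrel := H62.relIndex_centralizer_dvd_prime (p := 3) (R : Subgroup K) hR3
      have hc : Nat.card (centralizer ((R : Subgroup K) : Set K)) *
          (centralizer ((R : Subgroup K) : Set K)).relIndex (normalizer ((R : Subgroup K) : Set K)) =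
            Nat.card (normalizer ((R : Subgroup K) : Set K)) := by
        rw [Subgroup.relIndex, ← Nat.card_congr (Subgroup.subgroupOfEquivOfLe hle).toEquiv]
        exact Subgroup.card_mul_index _
      rcases (by norm_num : Nat.Prime 5).dvd_mul.mp (hc.symm ▸ h5R) with h | h
      · exact h
      · have := h.trans hrel
        omega
    obtain ⟨y, hy⟩ := exists_prime_orderOf_dvd_card' 5 h5C
    obtain ⟨Q, hQ⟩ := (IsPGroup.of_card (p := 5) (n := 1)
      (by rw [Nat.card_zpowers, Subgroup.orderOf_coe, hy, pow_one] :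
        Nat.card (zpowers (y : K)) = 5 ^ 1)).exists_le_sylow
    have hQe : zpowers (y : K) = (Q : Subgroup K) :=
      Subgroup.eq_of_le_of_card_ge hQ (by rw [hP5 Q, Nat.card_zpowers, Subgroup.orderOf_coe, hy])
    have hRQ : (R : Subgroup K) ≤ normalizer ((Q : Subgroup K) : Set K) := by
      refine le_trans ?_ (Subgroup.centralizer_le_normalizer _)
      rw [← hQe]
      intro r hr
      rw [Subgroup.mem_centralizer_iff]
      intro w hw
      obtain ⟨l, rfl⟩ := Subgroup.mem_zpowers_iff.mp hw
      exact ((show Commute (y : K) r from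
        (Subgroup.mem_centralizer_iff.mp y.2 r hr).symm).zpow_left l).eq
    have hQ10 : Nat.card (normalizer ((Q : Subgroup K) : Set K)) = 10 := by
      have := H62.card_normalizer_mul Q
      rw [h6, h60] at this
      omega
    have := Subgroup.card_dvd_of_le hRQ
    rw [hR3, hQ10] at this
    omega

variable {G : Type*} [Group G] [Finite G] [IsSimpleGroup G]

/-- A simple group of order 175560 has a central involution with centraliser `Z2 × A5`. -/
theorem exists_janko_involution (hn : Nat.card G = 175560) :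
    ∃ t : G, Cfsg.IsTwoCentralInvolution t ∧
      Nonempty (centralizer ({t} : Set G) ≃* Multiplicative (ZMod 2) × alternatingGroup (Fin 5)) := by
  classical
  haveI : Fact (Nat.Prime 2) := ⟨Nat.prime_two⟩
  obtain ⟨S, hmem, hS⟩ := exists_survivor hn
  simp only [survivors, List.mem_cons, List.not_mem_nil, or_false] at hmem
  rcases hmem with he | he | he
  · exact (false_fifteen hS he).elim
  swap
  · exact (false_eleven hS he).elim
  obtain ⟨z, T, hz, hzT, hzc, hC, hexp⟩ := exists_involution_120 hS he
  refine ⟨z, ⟨hz, T, hzT, hzc⟩, ?_⟩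
  set C := centralizer ({z} : Set G) with hCdef
  have hTC : (T : Subgroup G) ≤ C := fun x hx => Subgroup.mem_centralizer_singleton_iff.mpr (hzc x hx)
  have hT8 : Nat.card (T : Subgroup G) = 8 := by
    rw [H62.card_sylow_coe (a := 3) (m := 21945) (hn.trans (by norm_num)) (by norm_num) T]; norm_num
  set TC := (T : Subgroup G).subgroupOf C with hTCdef
  have hTC8 : Nat.card TC = 8 := by
    rw [hTCdef, Nat.card_congr (Subgroup.subgroupOfEquivOfLe hTC).toEquiv, hT8]
  have hTab : IsMulCommutative TC := by
    refine ⟨⟨fun a b => ?_⟩⟩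
    have hsq : ∀ y : TC, y * y = 1 := fun y => by
      apply Subtype.ext
      apply Subtype.ext
      have h := orderOf_dvd_natCard y
      rw [hTC8, ← Subgroup.orderOf_coe, ← Subgroup.orderOf_coe] at h
      simpa [pow_two] using hexp _ h
    calc a * b = (a * b)⁻¹ := (inv_eq_of_mul_eq_one_right (hsq _)).symm
      _ = b⁻¹ * a⁻¹ := mul_inv_rev a b
      _ = b * a := by rw [inv_eq_of_mul_eq_one_right (hsq a), inv_eq_of_mul_eq_one_right (hsq b)]
  open scoped IsMulCommutative in
  let τ : C →* TC := MonoidHom.transfer (MonoidHom.id TC)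
  let zc : C := ⟨z, Subgroup.mem_centralizer_singleton_iff.mpr rfl⟩
  have hzC : ∀ g : C, g * zc = zc * g := fun g =>
    Subtype.ext (Subgroup.mem_centralizer_singleton_iff.mp g.2)
  have hidx : TC.index = 15 := by
    have h := TC.card_mul_index
    rw [hTC8, hC] at h
    omega
  have hτz : ((τ zc : TC) : C) = zc := by
    have key : ∀ (k : ℕ) (g₀ : C), g₀⁻¹ * zc ^ k * g₀ ∈ TC → g₀⁻¹ * zc ^ k * g₀ = zc ^ k :=
      fun k g₀ _ => by
        rw [mul_assoc, ← ((show Commute g₀ zc from hzC g₀).pow_right k).eq, ← mul_assoc,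
          inv_mul_cancel, one_mul]
    open scoped IsMulCommutative in
    have h := MonoidHom.transfer_eq_pow (MonoidHom.id TC) zc key
    show ((τ zc : TC) : C) = zc
    rw [show τ zc = _ from h]
    show zc ^ TC.index = zc
    have hz2 : zc ^ 2 = 1 := Subtype.ext (by
      show z ^ 2 = 1
      rw [← hz, pow_orderOf_eq_one])
    rw [hidx, show 15 = 2 * 7 + 1 by norm_num, pow_succ, pow_mul, hz2, one_pow, one_mul]
  set K : Subgroup C := τ.ker with hK
  have hzK : zc ∉ K := fun h => by
    have h1 : zc = 1 := hτz.symm.trans (congrArg Subtype.val (MonoidHom.mem_ker.mp h))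
    have h1' : z = 1 := congrArg Subtype.val h1
    rw [h1', orderOf_one] at hz
    omega
  have hiK : K.index ∣ 8 := by
    rw [hK, Subgroup.index_ker, ← hTC8]
    exact Subgroup.card_subgroup_dvd_card _
  have hmulK := K.card_mul_index
  rw [hC] at hmulK
  have hiK1 : K.index ≠ 1 := fun h => hzK (Subgroup.index_eq_one.mp h ▸ Subgroup.mem_top zc)
  have h15 : 15 ∣ Nat.card K := by
    obtain ⟨d, hd⟩ := hiK
    refine ⟨d, ?_⟩
    have hpos : 0 < K.index := Nat.pos_of_ne_zero Subgroup.index_ne_zero_of_finite
    exact Nat.eq_of_mul_eq_mul_right hpos (by rw [hmulK, mul_assoc, mul_comm d, ← hd]; try norm_num)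
  -- six Sylow five-subgroups
  have f5 : Facts G 5 2926 30 := by have := hS.f5; rw [he] at this; exact this
  obtain ⟨y, hy⟩ := exists_prime_orderOf_dvd_card' (G := C) 5 (by rw [hC]; norm_num)
  obtain ⟨Q, hQ⟩ := exists_sylow_zpowers f5 (y := (y : G)) (by rw [Subgroup.orderOf_coe, hy])
  have hQC : (Q : Subgroup G) ≤ C := hQ ▸ zpowers_le.2 y.2
  have hm := card_inf_normalizer_mul C Q hQC
  rw [hC] at hm
  have hX60 : Nat.card (normalizer ((Q : Subgroup G) : Set G) ⊓ C : Subgroup G) ∣ 60 := by
    have h60 : Nat.card (normalizer ((Q : Subgroup G) : Set G)) = 60 := by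
      rw [card_normalizer_eq hn f5 Q]
    exact h60 ▸ Subgroup.card_dvd_of_le inf_le_left
  have hC6 : Nat.card (Sylow 5 C) = 6 := by
    have hd : Nat.card (Sylow 5 C) ∣ 24 :=
      H62.card_sylow_dvd (a := 1) (by rw [hC]; norm_num) (by norm_num)
    have hmod := H62.card_sylow_mod (G := C) (p := 5)
    have hle := Nat.le_of_dvd (by norm_num) hd
    have hne : Nat.card (Sylow 5 C) ≠ 1 := fun h => by
      rw [h, mul_one] at hm
      rw [hm] at hX60
      exact absurd hX60 (by norm_num)
    generalize Nat.card (Sylow 5 C) = m at hd hmod hle hne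
    interval_cases m <;> omega
  let QC : Sylow 5 C := Q.subtype hQC
  have hQK : (QC : Subgroup C) ≤ K := by
    intro x hx
    rw [hK, MonoidHom.mem_ker]
    have h1 : orderOf (τ x) ∣ 5 := by
      refine (orderOf_map_dvd τ x).trans ?_
      have hx' : (x : G) ∈ (Q : Subgroup G) := hx
      have := orderOf_dvd_natCard (⟨(x : G), hx'⟩ : (Q : Subgroup G))
      rwa [f5.card_P Q, Subgroup.orderOf_mk, Subgroup.orderOf_coe] at this
    have h2 : orderOf (τ x) ∣ 8 := hTC8 ▸ orderOf_dvd_natCard _
    exact orderOf_eq_one_iff.mp (Nat.dvd_one.mp (by simpa using Nat.dvd_gcd h1 h2))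
  have hK6 : Nat.card (Sylow 5 K) = 6 := by
    have hone : Nat.card (Sylow 5 (normalizer ((QC : Subgroup C) : Set C))) = 1 := by
      rw [H62.card_sylow_eq_one_iff (QC.subtype Subgroup.le_normalizer), Subgroup.normalizer_eq_top_iff]
      exact Subgroup.normal_in_normalizer
    have h := H32.card_sylow_eq_mul_normalizer_inf QC K
    rw [inf_eq_left.mpr hQK, hone, mul_one, hC6] at h
    exact h.symm
  have hK60 : Nat.card K = 60 := by
    obtain ⟨d, hd⟩ := h15
    rw [hd] at hmulK
    have hd8 : d * K.index = 8 := by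
      have : 15 * (d * K.index) = 120 := by rw [← hmulK]; ring
      omega
    have hdd : d ∣ 8 := ⟨_, hd8.symm⟩
    have hdle : d ≤ 8 := Nat.le_of_dvd (by norm_num) hdd
    have h6d : 6 ∣ 3 * d := by
      have := H62.card_sylow_dvd (G := K) (p := 5) (a := 1) (m := 3 * d)
        (by rw [hd]; ring) (fun h => by
          rcases (by norm_num : Nat.Prime 5).dvd_mul.mp h with h | h
          · omega
          · have := h.trans hdd; omega)
      rwa [hK6] at this
    have hd30 : d ≠ 2 := by
      rintro rfl
      have := card_sylow_five_of_thirty (M := K) (by rw [hd])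
      omega
    interval_cases d <;> omega
  haveI := simple_of_six hK60 hK6
  obtain ⟨eK⟩ := H59.simple60_iso hK60
  have hcomm : ∀ (a : zpowers zc) (b : K), Commute (a : C) (b : C) := fun a b => by
    obtain ⟨l, hl⟩ := Subgroup.mem_zpowers_iff.mp a.2
    rw [← hl]
    exact (show Commute zc (b : C) from (hzC b).symm).zpow_left l
  let μ : zpowers zc × K →* C := MonoidHom.noncommCoprod (zpowers zc).subtype K.subtype hcomm
  have hzc2 : orderOf zc = 2 := by rw [Subgroup.orderOf_mk, hz]
  have hμ : Function.Injective μ := by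
    rw [injective_iff_map_eq_one]
    rintro ⟨a, b⟩ hab
    have h : (a : C) * (b : C) = 1 := hab
    have haK : (a : C) ∈ K := (eq_inv_of_mul_eq_one_left h) ▸ inv_mem b.2
    have ha : (a : C) = 1 := by
      by_contra hne
      exact hzK (eq_of_mem_zpowers_two hzc2 a.2 hne ▸ haK)
    rw [ha, one_mul] at h
    exact Prod.ext (Subtype.ext ha) (Subtype.ext h)
  have hcard : Nat.card C ≤ Nat.card (zpowers zc × K) := by
    rw [Nat.card_prod, Nat.card_zpowers, hzc2, hK60, hC]
  let e1 := MulEquiv.ofBijective μ (hμ.bijective_of_nat_card_le hcard)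
  have e2 : zpowers zc ≃* Multiplicative (ZMod 2) :=
    mulEquivOfPrimeCardEq (p := 2) (by rw [Nat.card_zpowers, hzc2]) (by simp)
  exact ⟨e1.symm.trans (e2.prodCongr eK)⟩

end H19.J1Order
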