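import Cfsg.Agent.H32.ExactSieve

/-!
The arithmetic sieve for simple groups of order 175560.
-/

set_option autoImplicit false

namespace H19.J1Order

open H32.ExactSieve

/-- The divisors of 175560. -/
def dlist : List ℕ :=
  [1, 2, 4, 8].flatMap fun a => [1, 3].flatMap fun b => [1, 5].flatMap fun c => [1, 7].flatMap fun d =>
    [1, 11].flatMap fun e => [1, 19].map fun f => a * b * c * d * e * f

theorem divList_subset : (divList [2, 2, 2, 3, 5, 7, 11, 19]).all (fun d => dlist.contains d) = true := by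
  decide +kernel

theorem mem_dlist {d : ℕ} (h : d ∣ 175560) : d ∈ dlist := by
  have hm : d ∈ divList [2, 2, 2, 3, 5, 7, 11, 19] := by
    refine mem_divList _ ?_ d (by simpa using h)
    intro p hp
    simp only [List.mem_cons, List.not_mem_nil, or_false] at hp
    rcases hp with rfl | rfl | rfl | rfl | rfl | rfl | rfl | rfl <;> norm_num
  simpa using List.all_eq_true.mp divList_subset d hm

/-- The candidates (Sylow number, centraliser order) for 19. -/
def opts19 : List (ℕ × ℕ) :=
  [(20, 1463), (20, 2926), (20, 4389), (77, 380), (77, 760), (77, 1140), (210, 418), (1540, 19), (1540, 38), (1540, 57)]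

theorem opts19_complete : (opts dlist 175560 19).all
    (fun s => decide (s.2.1 ≤ 18) || opts19.contains s.2) = true := by
  decide +kernel

/-- The candidates (Sylow number, centraliser order) for 11. -/
def opts11 : List (ℕ × ℕ) :=
  [(56, 627), (133, 132), (133, 264), (133, 660), (210, 418), (1596, 11), (1596, 22), (1596, 55)]

theorem opts11_complete : (opts dlist 175560 11).all
    (fun s => decide (s.2.1 ≤ 18) || opts11.contains s.2) = true := by
  decide +kernel

/-- The candidates (Sylow number, centraliser order) for 7. -/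
def opts7 : List (ℕ × ℕ) :=
  [(22, 1330), (22, 2660), (22, 3990), (57, 1540), (190, 154), (190, 308), (190, 462), (330, 266), (1254, 70), (4180, 7), (4180, 14), (4180, 21)]

theorem opts7_complete : (opts dlist 175560 7).all
    (fun s => decide (s.2.1 ≤ 18) || opts7.contains s.2) = true := by
  decide +kernel

/-- The candidates (Sylow number, centraliser order) for 5. -/
def opts5 : List (ℕ × ℕ) :=
  [(21, 2090), (21, 4180), (66, 665), (66, 1330), (76, 1155), (231, 190), (231, 380), (266, 165), (266, 330), (836, 105), (1596, 55), (2926, 15), (2926, 30), (17556, 5)]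

theorem opts5_complete : (opts dlist 175560 5).all
    (fun s => decide (s.2.1 ≤ 18) || opts5.contains s.2) = true := by
  decide +kernel

/-- The candidates (Sylow number, centraliser order) for 3. -/
def opts3 : List (ℕ × ℕ) :=
  [(19, 4620), (22, 3990), (28, 3135), (55, 1596), (70, 1254), (76, 1155), (133, 660), (154, 570), (190, 462), (220, 399), (385, 228), (418, 210), (532, 165), (1045, 84), (1330, 66), (1540, 57), (2926, 30), (4180, 21), (7315, 12), (29260, 3)]

theorem opts3_complete : (opts dlist 175560 3).all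
    (fun s => decide (s.2.1 ≤ 18) || opts3.contains s.2) = true := by
  decide +kernel

/-- The possible numbers of partners. -/
def partnerList (p q c : ℕ) : List ℕ :=
  dlist.filter fun a => (c % (p * q * a) == 0) && (a % q == 1)

/-- The commuting pairs condition. -/
def pairOK (p : ℕ) (s : ℕ × ℕ) (q : ℕ) (t : ℕ × ℕ) : Bool :=
  ((s.2 % q == 0) == (t.2 % p == 0)) &&
    (!(s.2 % q == 0) || (partnerList p q s.2).any fun a => (partnerList q p t.2).any fun b =>
      s.1 * a == t.1 * b)

/-- The two-part of a divisor of 175560. -/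
def twoPart (c : ℕ) : ℕ :=
  if c % 8 == 0 then 8 else if c % 4 == 0 then 4 else if c % 2 == 0 then 2 else 1

/-- A configuration for the primes 19, 11, 7, 5, 3. -/
structure Cfg where
  /-- data at 19 -/
  a : ℕ × ℕ
  /-- data at 11 -/
  b : ℕ × ℕ
  /-- data at 7 -/
  c : ℕ × ℕ
  /-- data at 5 -/
  d : ℕ × ℕ
  /-- data at 3 -/
  e : ℕ × ℕ
deriving DecidableEq

/-- The possible orders of centralisers of involutions. -/
def Cfg.cond (S : Cfg) (x : ℕ) : Bool :=
  (x % 19 != 0 || S.a.2 % 2 == 0) && (x % 11 != 0 || S.b.2 % 2 == 0) &&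
    (x % 7 != 0 || S.c.2 % 2 == 0) && (x % 5 != 0 || S.d.2 % 2 == 0) &&
    (x % 3 != 0 || S.e.2 % 2 == 0)

/-- Multiplicity for 11. -/
def Cfg.mb (S : Cfg) : ℕ := if S.b.2 % 19 == 0 then twoPart S.b.2 else S.b.2 / 11

/-- Multiplicity for 7. -/
def Cfg.mc (S : Cfg) : ℕ :=
  if (S.c.2 % 19 == 0) || (S.c.2 % 11 == 0) then twoPart S.c.2 else S.c.2 / 7

/-- Multiplicity for 5. -/
def Cfg.md (S : Cfg) : ℕ :=
  if (S.d.2 % 19 == 0) || (S.d.2 % 11 == 0) || (S.d.2 % 7 == 0) then twoPart S.d.2 else S.d.2 / 5

/-- Multiplicity for 3. -/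
def Cfg.me (S : Cfg) : ℕ :=
  if (S.e.2 == 30) && (S.d.2 % 2 == 1) then 6
  else if (S.e.2 % 19 == 0) || (S.e.2 % 11 == 0) || (S.e.2 % 7 == 0) || (S.e.2 % 5 == 0) then
    twoPart S.e.2
  else S.e.2 / 3

/-- A lower bound for the number of elements that are no two-elements. -/
def Cfg.load (S : Cfg) : ℕ :=
  S.a.1 * 18 * (S.a.2 / 19) + S.b.1 * 10 * S.mb + S.c.1 * 6 * S.mc + S.d.1 * 4 * S.md +
    S.e.1 * 2 * S.me

/-- Room is left for the class of a central involution. -/
def Cfg.okCount (S : Cfg) : Bool :=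
  dlist.any fun x => (x % 8 == 0) && S.cond x && (S.load + 1 + 175560 / x ≤ 175560)

/-- The involution fixed by `N(P)` when `|C(P)| = 2p`. -/
def Cfg.okFix (S : Cfg) (p : ℕ) (s : ℕ × ℕ) : Bool :=
  (s.2 != 2 * p) || dlist.any fun x => S.cond x && (x % 4 == 0) && (x % (175560 / s.1) == 0) &&
    ((x / (175560 / s.1)) % p == 1)

/-- All the final conditions. -/
def Cfg.ok (S : Cfg) : Bool :=
  S.okCount && S.okFix 19 S.a && S.okFix 11 S.b && S.okFix 7 S.c && S.okFix 5 S.d && S.okFix 3 S.e

/-- The three configurations left. -/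
def survivors : List Cfg :=
  [⟨(1540, 19), (1596, 11), (4180, 7), (2926, 15), (2926, 30)⟩,
   ⟨(1540, 19), (1596, 11), (4180, 7), (2926, 30), (2926, 30)⟩,
   ⟨(1540, 19), (1596, 22), (4180, 7), (2926, 30), (2926, 30)⟩]

/-- The search. -/
def search : Bool :=
  opts19.all fun a => opts11.all fun b =>
    !(pairOK 19 a 11 b && pairOK 11 b 19 a) || opts7.all fun c =>
    !(pairOK 19 a 7 c && pairOK 7 c 19 a && pairOK 11 b 7 c && pairOK 7 c 11 b) || opts5.all fun d =>
    !(pairOK 19 a 5 d && pairOK 5 d 19 a && pairOK 11 b 5 d && pairOK 5 d 11 b &&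
      pairOK 7 c 5 d && pairOK 5 d 7 c) || opts3.all fun e =>
    !(pairOK 19 a 3 e && pairOK 3 e 19 a && pairOK 11 b 3 e && pairOK 3 e 11 b &&
      pairOK 7 c 3 e && pairOK 3 e 7 c && pairOK 5 d 3 e && pairOK 3 e 5 d) ||
    !(Cfg.ok ⟨a, b, c, d, e⟩) || survivors.contains ⟨a, b, c, d, e⟩

theorem search_eq : search = true := by decide +kernel

end H19.J1Order
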