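import Cfsg.Agent.H19.J1Order.Count
import Cfsg.Agent.H19.J1Order.Sieve
import Cfsg.Agent.H65.SimpleTools

/-!
The sieve applied to a simple group of order 175560: three configurations are left.
-/

set_option autoImplicit false

namespace H19.J1Order

open Subgroup H32.ExactSieve

variable {G : Type*} [Group G] [Finite G]

/-- A group of order 175560 with the data of its Sylow subgroups of odd order. -/
structure Data (G : Type*) [Group G] (S : Cfg) : Prop where
  card_eq : Nat.card G = 175560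
  f19 : Facts G 19 S.a.1 S.a.2
  f11 : Facts G 11 S.b.1 S.b.2
  f7 : Facts G 7 S.c.1 S.c.2
  f5 : Facts G 5 S.d.1 S.d.2
  f3 : Facts G 3 S.e.1 S.e.2

instance fact19 : Fact (Nat.Prime 19) := ⟨by norm_num⟩
instance fact11 : Fact (Nat.Prime 11) := ⟨by norm_num⟩
instance fact7 : Fact (Nat.Prime 7) := ⟨by norm_num⟩
instance fact5 : Fact (Nat.Prime 5) := ⟨by norm_num⟩

theorem cond_centralizer {S : Cfg} (hS : Data G S) {u : G} (hu : orderOf u = 2) :
    Nat.card (centralizer ({u} : Set G)) ∈ dlist ∧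
      S.cond (Nat.card (centralizer ({u} : Set G))) = true := by
  refine ⟨mem_dlist (hS.card_eq ▸ Subgroup.card_subgroup_dvd_card _), ?_⟩
  have key : ∀ {p : ℕ} [Fact p.Prime] {k c : ℕ}, Facts G p k c →
      (Nat.card (centralizer ({u} : Set G)) % p != 0 || c % 2 == 0) = true := by
    intro p _ k c hf
    simp only [Bool.or_eq_true, bne_iff_ne, beq_iff_eq, ne_eq]
    by_cases h : Nat.card (centralizer ({u} : Set G)) % p = 0
    · exact Or.inr (Nat.mod_eq_zero_of_dvd (two_dvd_of_dvd hf hu (Nat.dvd_of_mod_eq_zero h)))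
    · exact Or.inl h
  simp only [Cfg.cond, key hS.f19, key hS.f11, key hS.f7, key hS.f5, key hS.f3, Bool.and_self]

theorem twoPart_eq (c : ℕ) : ∃ j, twoPart c = 2 ^ j ∧ 2 ^ j ∣ c := by
  unfold twoPart
  simp only [beq_iff_eq]
  split_ifs with h1 h2 h3
  · exact ⟨3, rfl, Nat.dvd_of_mod_eq_zero h1⟩
  · exact ⟨2, rfl, Nat.dvd_of_mod_eq_zero h2⟩
  · exact ⟨1, rfl, Nat.dvd_of_mod_eq_zero h3⟩
  · exact ⟨0, rfl, one_dvd c⟩

theorem not_sq_dvd {S : Cfg} (hS : Data G S) {p k c : ℕ} [Fact p.Prime] (hf : Facts G p k c)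
    (hp : ¬ p * p ∣ 175560) : ¬ p * p ∣ c := fun h =>
  hp (hS.card_eq ▸ (h.trans (hf.card_C default ▸ Subgroup.card_subgroup_dvd_card _)))

/-- A bound of one of the two kinds. -/
theorem card_layer_either {p k c : ℕ} [Fact p.Prime] (hf : Facts G p k c) (L : List ℕ)
    (hL : ∀ r ∈ L, r.Prime ∧ r ≠ p) (hp2 : p ≠ 2) (hL2 : ∀ r ∈ L, r ≠ 2) (hsq : ¬ p * p ∣ c)
    (b : Bool) (hb : b = false → ∀ r ∈ L, ¬ r ∣ c) :
    k * (p - 1) * (if b then twoPart c else c / p) ≤ Nat.card {g : G // InLayer p L g} := by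
  cases b
  · exact card_layer_free hf L hL hsq (hb rfl)
  · obtain ⟨j, hj, hd⟩ := twoPart_eq c
    rw [if_pos rfl, hj]
    exact card_layer_two hf L hL hp2 hL2 j hd

/-- Six solutions of `y² = 1` in `C(P)` for `P` of order three, if five does not see involutions. -/
theorem six_squares {S : Cfg} (hS : Data G S) (h30 : S.e.2 = 30) (hodd : ¬ 2 ∣ S.d.2) (P : Sylow 3 G) :
    6 ≤ Nat.card {y : centralizer ((P : Subgroup G) : Set G) // y ^ 2 = 1} := by
  have h4 : Nat.card (centralizer ((P : Subgroup G) : Set G)) % 4 = 2 := by rw [hS.f3.card_C P, h30]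
  have hdvd := card_sylow_two_centralizer hS.f3 (by norm_num) P (by rw [h30])
  rw [h30] at hdvd
  have h5 : Nat.card (Sylow 2 (centralizer ((P : Subgroup G) : Set G))) ∣ 5 :=
    Nat.dvd_of_mul_dvd_mul_left (by norm_num : 0 < 6) (by simpa using hdvd)
  have hne : Nat.card (Sylow 2 (centralizer ((P : Subgroup G) : Set G))) ≠ 1 := by
    intro h1
    obtain ⟨t, ht, htC, huniq, hN⟩ := exists_fixed_involution (P : Subgroup G) h4 h1
    apply hodd
    refine two_dvd_of_dvd hS.f5 ht ?_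
    have h5C : 5 ∣ Nat.card (centralizer ((P : Subgroup G) : Set G)) := by
      rw [hS.f3.card_C P, h30]; norm_num
    exact h5C.trans (Subgroup.card_dvd_of_le ((Subgroup.centralizer_le_normalizer _).trans hN))
  have h := card_sylow_two_lt (C := centralizer ((P : Subgroup G) : Set G)) h4
  rcases (Nat.dvd_prime (by norm_num : Nat.Prime 5)).mp h5 with h5 | h5
  · exact absurd h5 hne
  · omega

/-- Elements of order dividing eight. -/
abbrev TwoElts (G : Type*) [Group G] : Type _ := {g : G // orderOf g ∣ 8}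

/-- The five layers and the two-elements are disjoint. -/
theorem layers_le {S : Cfg} (hS : Data G S) :
    Nat.card {g : G // InLayer 19 [] g} + Nat.card {g : G // InLayer 11 [19] g} +
      Nat.card {g : G // InLayer 7 [19, 11] g} + Nat.card {g : G // InLayer 5 [19, 11, 7] g} +
      Nat.card {g : G // InLayer 3 [19, 11, 7, 5] g} + Nat.card (TwoElts G) ≤ 175560 := by
  rw [← hS.card_eq, ← Nat.card_sum, ← Nat.card_sum, ← Nat.card_sum, ← Nat.card_sum, ← Nat.card_sum]
  refine Nat.card_le_card_of_injective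
    (Sum.elim (Sum.elim (Sum.elim (Sum.elim (Sum.elim Subtype.val Subtype.val) Subtype.val)
      Subtype.val) Subtype.val) Subtype.val) ?_
  have h8 : ∀ {g : G} {p : ℕ}, p ∣ orderOf g → ¬ p ∣ 8 → ¬ orderOf g ∣ 8 :=
    fun hg hp' h => hp' (hg.trans h)
  refine (((((Subtype.val_injective.sumElim Subtype.val_injective ?_).sumElim
    Subtype.val_injective ?_).sumElim Subtype.val_injective ?_).sumElim
    Subtype.val_injective ?_).sumElim Subtype.val_injective ?_)
  · intro a b h
    exact b.2.2 19 (by simp) (h ▸ a.2.1)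
  · rintro (a | a) b h <;> simp only [Sum.elim_inl, Sum.elim_inr] at h
    · exact b.2.2 19 (by simp) (h ▸ a.2.1)
    · exact b.2.2 11 (by simp) (h ▸ a.2.1)
  · rintro ((a | a) | a) b h <;> simp only [Sum.elim_inl, Sum.elim_inr] at h
    · exact b.2.2 19 (by simp) (h ▸ a.2.1)
    · exact b.2.2 11 (by simp) (h ▸ a.2.1)
    · exact b.2.2 7 (by simp) (h ▸ a.2.1)
  · rintro (((a | a) | a) | a) b h <;> simp only [Sum.elim_inl, Sum.elim_inr] at h
    · exact b.2.2 19 (by simp) (h ▸ a.2.1)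
    · exact b.2.2 11 (by simp) (h ▸ a.2.1)
    · exact b.2.2 7 (by simp) (h ▸ a.2.1)
    · exact b.2.2 5 (by simp) (h ▸ a.2.1)
  · rintro ((((a | a) | a) | a) | a) b h <;> simp only [Sum.elim_inl, Sum.elim_inr] at h
    · exact h8 a.2.1 (by norm_num) (h ▸ b.2)
    · exact h8 a.2.1 (by norm_num) (h ▸ b.2)
    · exact h8 a.2.1 (by norm_num) (h ▸ b.2)
    · exact h8 a.2.1 (by norm_num) (h ▸ b.2)
    · exact h8 a.2.1 (by norm_num) (h ▸ b.2)

theorem layer_nineteen {S : Cfg} (hS : Data G S) :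
    S.a.1 * 18 * (S.a.2 / 19) ≤ Nat.card {g : G // InLayer 19 [] g} :=
  card_layer_free hS.f19 [] (by simp) (not_sq_dvd hS hS.f19 (by norm_num)) (by simp)

theorem layer_eleven {S : Cfg} (hS : Data G S) :
    S.b.1 * 10 * S.mb ≤ Nat.card {g : G // InLayer 11 [19] g} := by
  refine card_layer_either hS.f11 [19] (by intro r hr; fin_cases hr <;> norm_num) (by norm_num) (by norm_num)
    (not_sq_dvd hS hS.f11 (by norm_num)) (S.b.2 % 19 == 0) ?_
  intro h r hr
  rw [beq_eq_false_iff_ne] at h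
  simp only [List.mem_singleton] at hr
  subst hr
  exact fun hd => h (Nat.mod_eq_zero_of_dvd hd)

theorem layer_seven {S : Cfg} (hS : Data G S) :
    S.c.1 * 6 * S.mc ≤ Nat.card {g : G // InLayer 7 [19, 11] g} := by
  refine card_layer_either hS.f7 [19, 11] (by intro r hr; fin_cases hr <;> norm_num) (by norm_num) (by norm_num)
    (not_sq_dvd hS hS.f7 (by norm_num)) ((S.c.2 % 19 == 0) || (S.c.2 % 11 == 0)) ?_
  intro h r hr
  simp only [Bool.or_eq_false_iff, beq_eq_false_iff_ne, ne_eq] at h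
  simp only [List.mem_cons, List.not_mem_nil, or_false] at hr
  rcases hr with rfl | rfl
  · exact fun hd => h.1 (Nat.mod_eq_zero_of_dvd hd)
  · exact fun hd => h.2 (Nat.mod_eq_zero_of_dvd hd)

theorem layer_five {S : Cfg} (hS : Data G S) :
    S.d.1 * 4 * S.md ≤ Nat.card {g : G // InLayer 5 [19, 11, 7] g} := by
  refine card_layer_either hS.f5 [19, 11, 7] (by intro r hr; fin_cases hr <;> norm_num) (by norm_num) (by norm_num)
    (not_sq_dvd hS hS.f5 (by norm_num))
    ((S.d.2 % 19 == 0) || (S.d.2 % 11 == 0) || (S.d.2 % 7 == 0)) ?_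
  intro h r hr
  simp only [Bool.or_eq_false_iff, beq_eq_false_iff_ne, ne_eq] at h
  simp only [List.mem_cons, List.not_mem_nil, or_false] at hr
  rcases hr with rfl | rfl | rfl
  · exact fun hd => h.1.1 (Nat.mod_eq_zero_of_dvd hd)
  · exact fun hd => h.1.2 (Nat.mod_eq_zero_of_dvd hd)
  · exact fun hd => h.2 (Nat.mod_eq_zero_of_dvd hd)

theorem load_add_le {S : Cfg} (hS : Data G S) : S.load + Nat.card (TwoElts G) ≤ 175560 := by
  classical
  have l19 := layer_nineteen hS
  have l11 := layer_eleven hS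
  have l7 := layer_seven hS
  have l5 := layer_five hS
  have hL3 : ∀ r ∈ [19, 11, 7, 5], r.Prime ∧ r ≠ 3 := by intro r hr; fin_cases hr <;> norm_num
  have l3 : S.e.1 * 2 * S.me ≤ Nat.card {g : G // InLayer 3 [19, 11, 7, 5] g} := by
    unfold Cfg.me
    by_cases hc : ((S.e.2 == 30) && (S.d.2 % 2 == 1)) = true
    · rw [if_pos hc]
      simp only [Bool.and_eq_true, beq_iff_eq] at hc
      exact card_layer_squares hS.f3 _ hL3 (by norm_num) (by norm_num) 6
        (six_squares hS hc.1 (by omega))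
    · rw [if_neg hc]
      refine card_layer_either hS.f3 _ hL3 (by norm_num) (by norm_num)
        (not_sq_dvd hS hS.f3 (by norm_num))
        ((S.e.2 % 19 == 0) || (S.e.2 % 11 == 0) || (S.e.2 % 7 == 0) || (S.e.2 % 5 == 0)) ?_
      intro h r hr
      simp only [Bool.or_eq_false_iff, beq_eq_false_iff_ne, ne_eq] at h
      simp only [List.mem_cons, List.not_mem_nil, or_false] at hr
      rcases hr with rfl | rfl | rfl | rfl
      · exact fun hd => h.1.1.1 (Nat.mod_eq_zero_of_dvd hd)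
      · exact fun hd => h.1.1.2 (Nat.mod_eq_zero_of_dvd hd)
      · exact fun hd => h.1.2 (Nat.mod_eq_zero_of_dvd hd)
      · exact fun hd => h.2 (Nat.mod_eq_zero_of_dvd hd)
  have hsum := layers_le hS
  unfold Cfg.load
  omega

theorem class_mem_twoElts {u v : G} (hu : orderOf u = 2) (h : IsConj u v) : orderOf v = 2 := by
  obtain ⟨g, rfl⟩ := isConj_iff.mp h
  rw [show g * u * g⁻¹ = MulAut.conj g u from rfl, MulEquiv.orderOf_eq, hu]

theorem class_add_one_le {u : G} (hu : orderOf u = 2) :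
    Nat.card {g : G // IsConj u g} + 1 ≤ Nat.card (TwoElts G) := by
  rw [← Finite.card_option]
  refine Nat.card_le_card_of_injective (fun o : Option {g : G // IsConj u g} => (o.elim ⟨1, by simp⟩
    (fun g => ⟨g.1, by rw [class_mem_twoElts hu g.2]; norm_num⟩) : TwoElts G)) ?_
  rintro (_ | a) (_ | b) h
  · rfl
  · have := class_mem_twoElts hu b.2
    rw [show (b.1 : G) = 1 from (congrArg Subtype.val h).symm, orderOf_one] at this
    omega
  · have := class_mem_twoElts hu a.2
    rw [show (a.1 : G) = 1 from congrArg Subtype.val h, orderOf_one] at this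
    omega
  · exact congrArg some (Subtype.ext (congrArg (fun x : TwoElts G => x.1) h))

theorem pairOK_of_facts {p q : ℕ} [Fact p.Prime] [Fact q.Prime] {s t : ℕ × ℕ}
    (hn : Nat.card G = 175560) (hpq : p ≠ q) (hf : Facts G p s.1 s.2) (hg : Facts G q t.1 t.2) :
    pairOK p s q t = true := by
  simp only [pairOK, Bool.and_eq_true, Bool.or_eq_true, Bool.not_eq_true', beq_iff_eq,
    beq_eq_false_iff_ne, ne_eq, List.any_eq_true]
  refine ⟨?_, ?_⟩
  · rw [Bool.eq_iff_iff, beq_iff_eq, beq_iff_eq, ← Nat.dvd_iff_mod_eq_zero,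
      ← Nat.dvd_iff_mod_eq_zero]
    exact ⟨centralizer_dvd_symm hf hg, centralizer_dvd_symm hg hf⟩
  by_cases hd : s.2 % q = 0
  swap
  · exact Or.inl hd
  obtain ⟨a, b, ha, ha', hb, hb', he⟩ := exists_pair_count hf hg hpq (Nat.dvd_of_mod_eq_zero hd)
  have hdiv : ∀ {p' : ℕ} [Fact p'.Prime] {k c : ℕ}, Facts G p' k c → ∀ m x, m * x ∣ c → x ∈ dlist :=
    fun hf' m x hx => mem_dlist (hn ▸ ((dvd_mul_left x m).trans hx).trans
      (hf'.card_C default ▸ Subgroup.card_subgroup_dvd_card _))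
  refine Or.inr ⟨a, ?_, b, ?_, he⟩
  · simp only [partnerList, List.mem_filter, Bool.and_eq_true, beq_iff_eq]
    exact ⟨hdiv hf _ a ha, Nat.mod_eq_zero_of_dvd ha, ha'⟩
  · simp only [partnerList, List.mem_filter, Bool.and_eq_true, beq_iff_eq]
    exact ⟨hdiv hg _ b hb, Nat.mod_eq_zero_of_dvd hb, hb'⟩

theorem okCount_of_data [Fact (Nat.Prime 2)] {S : Cfg} (hS : Data G S) : S.okCount = true := by
  obtain ⟨z, T, hz, hzT, hzc⟩ := exists_two_central (G := G) (by rw [hS.card_eq]; norm_num)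
  have h8 : 8 ∣ Nat.card (centralizer ({z} : Set G)) := by
    refine dvd_trans ?_ (Subgroup.card_dvd_of_le (fun x hx =>
      Subgroup.mem_centralizer_singleton_iff.mpr (hzc x hx) :
        (T : Subgroup G) ≤ centralizer ({z} : Set G)))
    exact T.pow_dvd_card_of_pow_dvd_card (n := 3) (by rw [hS.card_eq]; norm_num)
  obtain ⟨hmem, hcond⟩ := cond_centralizer hS hz
  simp only [Cfg.okCount, List.any_eq_true, Bool.and_eq_true, beq_iff_eq, decide_eq_true_eq]
  refine ⟨_, hmem, ⟨Nat.mod_eq_zero_of_dvd h8, hcond⟩, ?_⟩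
  have h1 := load_add_le hS
  have h2 := class_add_one_le hz
  have h3 := H65.card_class_mul z
  rw [hS.card_eq] at h3
  rw [← h3, Nat.mul_div_cancel _ Nat.card_pos]
  omega

theorem okFix_of_facts [Fact (Nat.Prime 2)] {S : Cfg} (hS : Data G S) {p : ℕ} [Fact p.Prime]
    (hp2 : p ≠ 2) {s : ℕ × ℕ} (hf : Facts G p s.1 s.2) : S.okFix p s = true := by
  simp only [Cfg.okFix, Bool.or_eq_true, bne_iff_ne, ne_eq, List.any_eq_true, Bool.and_eq_true,
    beq_iff_eq]
  by_cases hc : s.2 = 2 * p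
  swap
  · exact Or.inl hc
  right
  have hodd : p % 2 = 1 := (Fact.out : p.Prime).mod_two_eq_one_iff_ne_two.mpr hp2
  set P : Sylow p G := default
  have h4 : s.2 % 4 = 2 := by omega
  have hn2 := card_sylow_two_centralizer hf hp2 P h4
  have h1 : Nat.card (Sylow 2 (centralizer ((P : Subgroup G) : Set G))) = 1 := by
    rw [hc] at hn2
    exact Nat.dvd_one.mp (Nat.dvd_of_mul_dvd_mul_left
      (Nat.mul_pos two_pos (Fact.out : p.Prime).pos) (by rwa [mul_one]))
  obtain ⟨t, ht, htC, -, hN⟩ := exists_fixed_involution (P : Subgroup G)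
    (by rw [hf.card_C P]; exact h4) h1
  obtain ⟨hmem, hcond⟩ := cond_centralizer hS ht
  have hNc : Nat.card (normalizer ((P : Subgroup G) : Set G)) = 175560 / s.1 := by
    have h := H62.card_normalizer_mul P
    rw [hf.card_sylow, hS.card_eq] at h
    rw [← h, Nat.mul_div_cancel _ (hf.card_sylow ▸ Nat.card_pos)]
  have hPC : (P : Subgroup G) ≤ centralizer ({t} : Set G) := Subgroup.le_normalizer.trans hN
  have hmul := card_inf_normalizer_mul _ P hPC
  rw [inf_eq_left.mpr hN, hNc] at hmul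
  refine ⟨_, hmem, ⟨⟨hcond, ?_⟩, ?_⟩, ?_⟩
  · exact Nat.mod_eq_zero_of_dvd (four_dvd_centralizer (by rw [hS.card_eq]; norm_num) ht)
  · exact Nat.mod_eq_zero_of_dvd ⟨_, hmul.symm⟩
  · rw [← hmul, Nat.mul_div_cancel_left _ (hNc ▸ Nat.card_pos)]
    exact H62.card_sylow_mod

variable [IsSimpleGroup G]

theorem mem_opts {p : ℕ} [Fact p.Prime] {k c : ℕ} (hn : Nat.card G = 175560) (hp2 : p ≠ 2)
    (hd : p ∣ 175560) (hsq : 175560 % (p * p) ≠ 0) (hf : Facts G p k c) (L : List (ℕ × ℕ))
    (hL : (opts dlist 175560 p).all (fun s => decide (s.2.1 ≤ 18) || L.contains s.2) = true) :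
    (k, c) ∈ L := by
  have hG : ¬ IsMulCommutative G := H62.not_comm_of_not_prime (by rw [hn]; norm_num)
  have hok := okOne_of_facts hG hp2 (hn ▸ hd) (hn ▸ hsq) hf
  rw [hn] at hok
  have hk18 : 18 < k := by
    rw [← hf.card_sylow]
    refine H62.lt_card_sylow hG (hn ▸ hd) ?_
    rw [hn]
    intro h
    have h19 : (19 : ℕ) ∣ Nat.factorial 18 := dvd_trans (by norm_num) h
    rw [Nat.Prime.dvd_factorial (by norm_num)] at h19
    omega
  have hmem : (p, k, c) ∈ opts dlist 175560 p := by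
    simp only [opts, List.mem_flatMap, List.mem_map, List.mem_filter]
    have hok' := hok
    simp only [okOne, Bool.and_eq_true, Bool.or_eq_true, beq_iff_eq] at hok'
    obtain ⟨⟨⟨⟨⟨⟨⟨a1, a2⟩, a3⟩, a4⟩, a5⟩, -⟩, -⟩, -⟩ := hok'
    have hk : k ∣ 175560 := (Nat.dvd_of_mod_eq_zero a2).trans (Nat.div_dvd_of_dvd hd)
    exact ⟨k, ⟨mem_dlist hk, by simp [a1, a2, a3]⟩, c,
      ⟨mem_dlist ((Nat.dvd_of_mod_eq_zero a5).trans (Nat.div_dvd_of_dvd hk)), hok⟩, rfl⟩
  have h := List.all_eq_true.mp hL _ hmem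
  simp only [Bool.or_eq_true, decide_eq_true_eq, List.contains_iff_mem] at h
  exact h.resolve_left (by omega)

/-- Three configurations are left. -/
theorem exists_survivor [Fact (Nat.Prime 2)] (hn : Nat.card G = 175560) :
    ∃ S ∈ survivors, Data G S := by
  have hf : ∀ (p : ℕ) [Fact p.Prime], p ∣ 175560 → 175560 % (p * p) ≠ 0 → ∃ k c, Facts G p k c :=
    fun p _ h1 h2 => exists_facts (hn ▸ h2) (hn ▸ h1)
  obtain ⟨k19, c19, f19⟩ := hf 19 (by norm_num) (by norm_num)
  obtain ⟨k11, c11, f11⟩ := hf 11 (by norm_num) (by norm_num)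
  obtain ⟨k7, c7, f7⟩ := hf 7 (by norm_num) (by norm_num)
  obtain ⟨k5, c5, f5⟩ := hf 5 (by norm_num) (by norm_num)
  obtain ⟨k3, c3, f3⟩ := hf 3 (by norm_num) (by norm_num)
  let S : Cfg := ⟨(k19, c19), (k11, c11), (k7, c7), (k5, c5), (k3, c3)⟩
  have hS : Data G S := ⟨hn, f19, f11, f7, f5, f3⟩
  refine ⟨S, ?_, hS⟩
  have m19 := mem_opts hn (by norm_num) (by norm_num) (by norm_num) f19 _ opts19_complete
  have m11 := mem_opts hn (by norm_num) (by norm_num) (by norm_num) f11 _ opts11_complete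
  have m7 := mem_opts hn (by norm_num) (by norm_num) (by norm_num) f7 _ opts7_complete
  have m5 := mem_opts hn (by norm_num) (by norm_num) (by norm_num) f5 _ opts5_complete
  have m3 := mem_opts hn (by norm_num) (by norm_num) (by norm_num) f3 _ opts3_complete
  have hok : S.ok = true := by
    simp only [Cfg.ok, okCount_of_data hS, okFix_of_facts hS (by norm_num) hS.f19,
      okFix_of_facts hS (by norm_num) hS.f11, okFix_of_facts hS (by norm_num) hS.f7,
      okFix_of_facts hS (by norm_num) hS.f5, okFix_of_facts hS (by norm_num) hS.f3, Bool.and_self]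
  have P1 : ∀ {p q : ℕ} [Fact p.Prime] [Fact q.Prime] {k c k' c' : ℕ}, p ≠ q → Facts G p k c →
      Facts G q k' c' → pairOK p (k, c) q (k', c') = true :=
    fun h a b => pairOK_of_facts hn h a b
  have h := search_eq
  unfold search at h
  have h1 := List.all_eq_true.mp (List.all_eq_true.mp h _ m19) _ m11
  rw [P1 (by norm_num) f19 f11, P1 (by norm_num) f11 f19] at h1
  simp only [Bool.and_self, Bool.not_true, Bool.false_or] at h1
  have h2 := List.all_eq_true.mp h1 _ m7
  rw [P1 (by norm_num) f19 f7, P1 (by norm_num) f7 f19, P1 (by norm_num) f11 f7,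
    P1 (by norm_num) f7 f11] at h2
  simp only [Bool.and_self, Bool.not_true, Bool.false_or] at h2
  have h3 := List.all_eq_true.mp h2 _ m5
  rw [P1 (by norm_num) f19 f5, P1 (by norm_num) f5 f19, P1 (by norm_num) f11 f5,
    P1 (by norm_num) f5 f11, P1 (by norm_num) f7 f5, P1 (by norm_num) f5 f7] at h3
  simp only [Bool.and_self, Bool.not_true, Bool.false_or] at h3
  have h4 := List.all_eq_true.mp h3 _ m3
  rw [P1 (by norm_num) f19 f3, P1 (by norm_num) f3 f19, P1 (by norm_num) f11 f3,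
    P1 (by norm_num) f3 f11, P1 (by norm_num) f7 f3, P1 (by norm_num) f3 f7,
    P1 (by norm_num) f5 f3, P1 (by norm_num) f3 f5] at h4
  rw [show Cfg.ok ⟨(k19, c19), (k11, c11), (k7, c7), (k5, c5), (k3, c3)⟩ = true from hok] at h4
  simpa [S] using h4

end H19.J1Order
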