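import Cfsg.Agent.H19.J1Order.Involutions

/-!
Lower bounds for the number of elements whose order is divisible by a given prime and by none
of some other primes.
-/

set_option autoImplicit false

namespace H19.J1Order

open Subgroup H32.ExactSieve

variable {G : Type*} [Group G]

/-- `p` divides the order and no prime of `L` does. -/
def InLayer (p : ℕ) (L : List ℕ) (g : G) : Prop :=
  p ∣ orderOf g ∧ ∀ r ∈ L, ¬ r ∣ orderOf g

/-- No prime of `p :: L` divides the order. -/
def Avoids (p : ℕ) (L : List ℕ) (g : G) : Prop :=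
  ¬ p ∣ orderOf g ∧ ∀ r ∈ L, ¬ r ∣ orderOf g

variable [Finite G] {p k c : ℕ} [Fact p.Prime]

omit [Finite G] [Fact p.Prime] in
theorem eq_of_pow_eq {a b : G} (ha : (orderOf a).Coprime p) (hb : (orderOf b).Coprime p)
    (h : a ^ p = b ^ p) : a = b := by
  obtain ⟨i, hi⟩ := exists_pow_eq_self_of_coprime (x := a) ha.symm
  have ho : orderOf a = orderOf b := by
    rw [← ha.orderOf_pow, ← hb.orderOf_pow, h]
  obtain ⟨j, hj⟩ := exists_pow_eq_self_of_coprime (x := b) hb.symm
  have h1 : a ∈ zpowers b := by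
    rw [← hi, h]
    exact pow_mem (pow_mem (Subgroup.mem_zpowers b) _) _
  obtain ⟨l, rfl⟩ := Subgroup.mem_zpowers_iff.mp h1
  have hc : (b ^ p) ^ j = b := hj
  calc b ^ l = ((b ^ p) ^ j) ^ l := by rw [hc]
    _ = ((b ^ l) ^ p) ^ j := by
      rw [← zpow_natCast, ← zpow_natCast, ← zpow_mul, ← zpow_mul, ← zpow_natCast, ← zpow_natCast,
        ← zpow_mul, ← zpow_mul]
      congr 1
      ring
    _ = b := by rw [h, hc]

theorem coprime_of_avoids {L : List ℕ} {y : G} (hy : Avoids p L y) : (orderOf y).Coprime p :=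
  ((Fact.out : p.Prime).coprime_iff_not_dvd.mpr hy.1).symm

/-- Counting products of a non-trivial element of `P` with elements of `C(P)` avoiding `p :: L`. -/
theorem card_layer (hf : Facts G p k c) (L : List ℕ) (hL : ∀ r ∈ L, r.Prime ∧ r ≠ p) (m : ℕ)
    (hm : ∀ P : Sylow p G,
      m ≤ Nat.card {y : centralizer ((P : Subgroup G) : Set G) // Avoids p L (y : G)}) :
    k * (p - 1) * m ≤ Nat.card {g : G // InLayer p L g} := by
  classical
  have := Fintype.ofFinite (Sylow p G)
  let D := Σ P : Sylow p G, {x : (P : Subgroup G) // x ≠ 1} ×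
    {y : centralizer ((P : Subgroup G) : Set G) // Avoids p L (y : G)}
  have hD : k * (p - 1) * m ≤ Nat.card D := by
    rw [Nat.card_sigma]
    refine le_trans (le_of_eq ?_) (Finset.sum_le_sum (f := fun _ => (p - 1) * m) fun P _ => ?_)
    · rw [Finset.sum_const, smul_eq_mul, Finset.card_univ, ← Nat.card_eq_fintype_card,
        hf.card_sylow, mul_assoc]
    · rw [Nat.card_prod]
      refine Nat.mul_le_mul (le_of_eq ?_) (hm P)
      have := Fintype.ofFinite (P : Subgroup G)
      rw [Nat.card_eq_fintype_card, Fintype.card_subtype_compl, Fintype.card_subtype_eq,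
        ← Nat.card_eq_fintype_card, hf.card_P P]
  have hord : ∀ d : D, orderOf ((d.2.1.1 : G)) = p := by
    rintro ⟨P, ⟨x, hx⟩, y⟩
    rw [Subgroup.orderOf_coe]
    refine orderOf_eq_prime ?_ hx
    have h := pow_card_eq_one' (x := x)
    rwa [hf.card_P P] at h
  have hcomm : ∀ d : D, Commute (d.2.1.1 : G) ((d.2.2.1 : centralizer ((d.1 : Subgroup G) : Set G)) : G) :=
    fun d => Subgroup.mem_centralizer_iff.mp d.2.2.1.2 _ d.2.1.1.2
  have hcop : ∀ d : D, (orderOf ((d.2.2.1 : centralizer ((d.1 : Subgroup G) : Set G)) : G)).Coprime p :=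
    fun d => coprime_of_avoids d.2.2.2
  have hmul : ∀ d : D, orderOf ((d.2.1.1 : G) * ((d.2.2.1 : centralizer ((d.1 : Subgroup G) : Set G)) : G)) =
      p * orderOf ((d.2.2.1 : centralizer ((d.1 : Subgroup G) : Set G)) : G) := fun d => by
    rw [(hcomm d).orderOf_mul_eq_mul_orderOf_of_coprime (by rw [hord d]; exact (hcop d).symm), hord d]
  let f : D → {g : G // InLayer p L g} := fun d =>
    ⟨(d.2.1.1 : G) * ((d.2.2.1 : centralizer ((d.1 : Subgroup G) : Set G)) : G), by
      refine ⟨hmul d ▸ dvd_mul_right _ _, fun r hr hdvd => ?_⟩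
      rw [hmul d] at hdvd
      rcases (hL r hr).1.dvd_mul.mp hdvd with h | h
      · exact (hL r hr).2 ((Nat.prime_dvd_prime_iff_eq (hL r hr).1 Fact.out).mp h)
      · exact d.2.2.2.2 r hr h⟩
  have hsing : ∀ d : D, (f d : G) ∈ singularSet p d.1 := fun d =>
    ⟨mul_mem (le_centralizer_self d.1 (hf.card_P _) d.2.1.1.2) d.2.2.1.2, (f d).2.1⟩
  refine hD.trans (Nat.card_le_card_of_injective f ?_)
  intro d d' h
  have h' : (f d : G) = (f d' : G) := congrArg Subtype.val h
  have hPP : d.1 = d'.1 := singular_unique (hf.card_P _) (hf.card_P _) (hsing d) (h' ▸ hsing d')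
  obtain ⟨P, x, y⟩ := d
  obtain ⟨P', x', y'⟩ := d'
  simp only at hPP
  subst hPP
  have hy : ((y.1 : centralizer ((P : Subgroup G) : Set G)) : G) = (y'.1 : G) := by
    refine eq_of_pow_eq (hcop ⟨P, x, y⟩) (hcop ⟨P, x', y'⟩) ?_
    have hx1 : (x.1 : G) ^ p = 1 := orderOf_dvd_iff_pow_eq_one.mp (hord ⟨P, x, y⟩).dvd
    have hx2 : (x'.1 : G) ^ p = 1 := orderOf_dvd_iff_pow_eq_one.mp (hord ⟨P, x', y'⟩).dvd
    have := congrArg (· ^ p) h'
    simpa [f, (hcomm ⟨P, x, y⟩).mul_pow, (hcomm ⟨P, x', y'⟩).mul_pow, hx1, hx2] using this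
  have hx : (x.1 : G) = (x'.1 : G) := by
    have h2 : (x.1 : G) * (y.1 : G) = (x'.1 : G) * (y'.1 : G) := h'
    rw [hy] at h2
    exact mul_right_cancel h2
  rw [Subtype.ext (Subtype.ext hx) (a2 := x'), Subtype.ext (Subtype.ext hy) (a2 := y')]

theorem card_le_avoids (L : List ℕ) (P : Sylow p G)
    (K : Subgroup (centralizer ((P : Subgroup G) : Set G)))
    (hp : ¬ p ∣ Nat.card K) (hL : ∀ r ∈ L, ¬ r ∣ Nat.card K) :
    Nat.card K ≤ Nat.card {y : centralizer ((P : Subgroup G) : Set G) // Avoids p L (y : G)} := by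
  refine Nat.card_le_card_of_injective (fun y : K => ⟨y.1, ?_⟩) fun a b h =>
    Subtype.ext (congrArg (fun z => z.1) h)
  have h : orderOf ((y.1 : centralizer ((P : Subgroup G) : Set G)) : G) ∣ Nat.card K := by
    rw [Subgroup.orderOf_coe, Subgroup.orderOf_coe]
    exact orderOf_dvd_natCard y
  exact ⟨fun hd => hp (hd.trans h), fun r hr hd => hL r hr (hd.trans h)⟩

/-- When no prime of `L` divides `|C(P)|`. -/
theorem card_layer_free (hf : Facts G p k c) (L : List ℕ) (hL : ∀ r ∈ L, r.Prime ∧ r ≠ p)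
    (hsq : ¬ p * p ∣ c) (hno : ∀ r ∈ L, ¬ r ∣ c) :
    k * (p - 1) * (c / p) ≤ Nat.card {g : G // InLayer p L g} := by
  refine card_layer hf L hL _ fun P => ?_
  set C := centralizer ((P : Subgroup G) : Set G) with hC
  set P' := (P : Subgroup G).subgroupOf C with hP'
  have hle := le_centralizer_self P (hf.card_P P)
  have hPc : Nat.card P' = p := by
    rw [hP', Nat.card_congr (Subgroup.subgroupOfEquivOfLe hle).toEquiv, hf.card_P P]
  have hnorm : P'.Normal := by
    refine ⟨fun x hx g => ?_⟩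
    rw [hP', Subgroup.mem_subgroupOf] at hx ⊢
    have h := Subgroup.mem_centralizer_iff.mp g.2 _ hx
    simpa [← h] using hx
  have hpd : p ∣ c :=
    (dvd_of_eq hPc.symm).trans ((Subgroup.card_subgroup_dvd_card P').trans (dvd_of_eq (hf.card_C P)))
  have hidx : P'.index = c / p := by
    rw [← hf.card_C P, ← Subgroup.card_mul_index P', hPc,
      Nat.mul_div_cancel_left _ (Fact.out : p.Prime).pos]
  have hnd : ¬ p ∣ c / p := fun h => hsq (Nat.mul_dvd_of_dvd_div hpd h)
  obtain ⟨K, hK⟩ := Subgroup.exists_right_complement'_of_coprime (N := P')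
    (by rw [hPc, hidx]; exact (Fact.out : p.Prime).coprime_iff_not_dvd.mpr hnd)
  have hKc : Nat.card K = c / p := by
    have h1 := hK.card_mul
    rw [hPc, hf.card_C P] at h1
    rw [← h1, Nat.mul_div_cancel_left _ (Fact.out : p.Prime).pos]
  rw [← hKc]
  exact card_le_avoids L P K (hKc ▸ hnd)
    (fun r hr h => hno r hr ((hKc ▸ h).trans (Nat.div_dvd_of_dvd hpd)))

/-- The bound from the two-part of `|C(P)|`. -/
theorem card_layer_two (hf : Facts G p k c) (L : List ℕ) (hL : ∀ r ∈ L, r.Prime ∧ r ≠ p)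
    (hp2 : p ≠ 2) (hL2 : ∀ r ∈ L, r ≠ 2) (j : ℕ) (hj : 2 ^ j ∣ c) :
    k * (p - 1) * 2 ^ j ≤ Nat.card {g : G // InLayer p L g} := by
  haveI := Fact.mk Nat.prime_two
  refine card_layer hf L hL _ fun P => ?_
  obtain ⟨K, hK⟩ := Sylow.exists_subgroup_card_pow_prime 2 (hf.card_C P ▸ hj)
  rw [← hK]
  refine card_le_avoids L P K ?_ ?_
  · rw [hK]
    exact fun h => hp2 ((Nat.prime_dvd_prime_iff_eq Fact.out Nat.prime_two).mp
      ((Fact.out : p.Prime).dvd_of_dvd_pow h))
  · intro r hr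
    rw [hK]
    exact fun h => hL2 r hr ((Nat.prime_dvd_prime_iff_eq (hL r hr).1 Nat.prime_two).mp
      ((hL r hr).1.dvd_of_dvd_pow h))

/-- The bound from the solutions of `y² = 1` in `C(P)`. -/
theorem card_layer_squares (hf : Facts G p k c) (L : List ℕ) (hL : ∀ r ∈ L, r.Prime ∧ r ≠ p)
    (hp2 : p ≠ 2) (hL2 : ∀ r ∈ L, r ≠ 2) (m : ℕ)
    (hm : ∀ P : Sylow p G, m ≤ Nat.card {y : centralizer ((P : Subgroup G) : Set G) // y ^ 2 = 1}) :
    k * (p - 1) * m ≤ Nat.card {g : G // InLayer p L g} := by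
  refine card_layer hf L hL _ fun P => (hm P).trans ?_
  refine Nat.card_le_card_of_injective (fun y => ⟨y.1, ?_⟩) fun a b h => Subtype.ext (congrArg (fun z => z.1) h)
  have h : orderOf ((y.1 : centralizer ((P : Subgroup G) : Set G)) : G) ∣ 2 := by
    rw [Subgroup.orderOf_coe]
    exact orderOf_dvd_of_pow_eq_one y.2
  exact ⟨fun hd => hp2 ((Nat.prime_dvd_prime_iff_eq Fact.out Nat.prime_two).mp (hd.trans h)),
    fun r hr hd => hL2 r hr ((Nat.prime_dvd_prime_iff_eq (hL r hr).1 Nat.prime_two).mp (hd.trans h))⟩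

end H19.J1Order
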