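import Cfsg.Agent.H19.J1Order.Basic

/-!
Involutions centralising a Sylow subgroup of prime order, and two-subgroups of order eight.
-/

set_option autoImplicit false

namespace H19.J1Order

open Subgroup H32.ExactSieve
open scoped Pointwise

variable {G : Type*} [Group G] [Finite G] [Fact (Nat.Prime 2)]

theorem card_sylow_two_of_mod_four {C : Type*} [Group C] [Finite C] (h4 : Nat.card C % 4 = 2)
    (R : Sylow 2 C) : Nat.card (R : Subgroup C) = 2 := by
  rw [H62.card_sylow_coe (a := 1) (m := Nat.card C / 2) (by omega) (by omega) R, pow_one]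

theorem zpowers_of_two {C : Type*} [Group C] [Finite C] (h4 : Nat.card C % 4 = 2) {t : C}
    (ht : orderOf t = 2) : ∃ R : Sylow 2 C, (R : Subgroup C) = zpowers t := by
  obtain ⟨R, hR⟩ := (IsPGroup.of_card (p := 2) (n := 1)
    (by rw [Nat.card_zpowers, ht, pow_one] : Nat.card (zpowers t) = 2 ^ 1)).exists_le_sylow
  exact ⟨R, (Subgroup.eq_of_le_of_card_ge hR
    (by rw [card_sylow_two_of_mod_four h4 R, Nat.card_zpowers, ht])).symm⟩

omit [Fact (Nat.Prime 2)] in
theorem eq_of_mem_zpowers_two {C : Type*} [Group C] {t u : C} (ht : orderOf t = 2)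
    (hu : u ∈ zpowers t) (hne : u ≠ 1) : u = t := by
  obtain ⟨i, rfl⟩ := Subgroup.mem_zpowers_iff.mp hu
  rw [← zpow_mod_orderOf t i, ht] at hne ⊢
  rcases (show i % ((2 : ℕ) : ℤ) = 0 ∨ i % ((2 : ℕ) : ℤ) = 1 by omega) with h | h
  · exact absurd (by rw [h, zpow_zero]) hne
  · rw [h, zpow_one]

/-- If `C(P)` has twice odd order and one Sylow 2-subgroup, its involution is fixed by `N(P)`. -/
theorem exists_fixed_involution (P : Subgroup G)
    (h4 : Nat.card (centralizer (P : Set G)) % 4 = 2)
    (h1 : Nat.card (Sylow 2 (centralizer (P : Set G))) = 1) :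
    ∃ t : G, orderOf t = 2 ∧ t ∈ centralizer (P : Set G) ∧
      (∀ u ∈ centralizer (P : Set G), orderOf u = 2 → u = t) ∧
      normalizer (P : Set G) ≤ centralizer ({t} : Set G) := by
  set C := centralizer (P : Set G) with hC
  have hsub : Subsingleton (Sylow 2 C) := (Nat.card_eq_one_iff_unique.mp h1).1
  obtain ⟨t, ht⟩ := exists_prime_orderOf_dvd_card' (G := C) 2 (by omega)
  obtain ⟨R, hR⟩ := zpowers_of_two h4 ht
  have huniq : ∀ u ∈ C, orderOf u = 2 → u = (t : G) := by
    intro u hu hu2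
    obtain ⟨R', hR'⟩ := zpowers_of_two h4 (t := (⟨u, hu⟩ : C)) (by rw [Subgroup.orderOf_mk, hu2])
    have hmem : (⟨u, hu⟩ : C) ∈ zpowers t := by
      rw [← hR, ← Subsingleton.elim R' R, hR']
      exact Subgroup.mem_zpowers _
    have hne : (⟨u, hu⟩ : C) ≠ 1 := fun h => by
      rw [show u = 1 from congrArg Subtype.val h, orderOf_one] at hu2
      omega
    exact congrArg Subtype.val (eq_of_mem_zpowers_two ht hmem hne)
  refine ⟨t, by rw [Subgroup.orderOf_coe, ht], t.2, huniq, fun g hg => ?_⟩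
  have hconj : g * t * g⁻¹ ∈ C := by
    rw [Subgroup.mem_centralizer_iff]
    intro w hw
    have hw' : g⁻¹ * w * g ∈ P := (Subgroup.mem_normalizer_iff''.mp hg w).mp hw
    have := Subgroup.mem_centralizer_iff.mp t.2 _ hw'
    calc w * (g * t * g⁻¹) = g * ((g⁻¹ * w * g) * t) * g⁻¹ := by group
      _ = g * (t * (g⁻¹ * w * g)) * g⁻¹ := by rw [this]
      _ = g * t * g⁻¹ * w := by group
  have he := huniq _ hconj (by
    rw [show g * t * g⁻¹ = MulAut.conj g (t : G) from rfl, MulEquiv.orderOf_eq,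
      Subgroup.orderOf_coe, ht])
  rw [Subgroup.mem_centralizer_singleton_iff]
  exact mul_inv_eq_iff_eq_mul.mp he

variable {p k c : ℕ} [Fact p.Prime]

/-- For `|C(P)| = 2m`, `m` odd, the number of Sylow 2-subgroups of `C(P)` divides `m / p`. -/
theorem card_sylow_two_centralizer (hf : Facts G p k c) (hp2 : p ≠ 2) (P : Sylow p G)
    (h4 : c % 4 = 2) :
    2 * p * Nat.card (Sylow 2 (centralizer ((P : Subgroup G) : Set G))) ∣ c := by
  rw [← hf.card_C P] at h4 ⊢
  set C := centralizer ((P : Subgroup G) : Set G) with hC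
  set R : Sylow 2 C := default
  rw [← H62.card_normalizer_mul R]
  refine Nat.mul_dvd_mul_right (((Nat.coprime_primes Nat.prime_two (Fact.out : p.Prime)).mpr
    hp2.symm).mul_dvd_of_dvd_of_dvd ?_ ?_) _
  · conv_lhs => rw [← card_sylow_two_of_mod_four h4 R]
    exact Subgroup.card_dvd_of_le (R : Subgroup C).le_normalizer
  · have hzC : (P : Subgroup G).subgroupOf C ≤ normalizer ((R : Subgroup C) : Set C) := by
      refine le_trans ?_ (Subgroup.center_le_normalizer _)
      intro x hx
      rw [Subgroup.mem_center_iff]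
      intro y
      apply Subtype.ext
      exact ((Subgroup.mem_centralizer_iff.mp y.2) _ hx).symm
    refine dvd_trans ?_ (Subgroup.card_dvd_of_le hzC)
    rw [Nat.card_congr
      (Subgroup.subgroupOfEquivOfLe (le_centralizer_self P (hf.card_P P))).toEquiv, hf.card_P P]

omit [Fact p.Prime] in
/-- At least one more solution of `x² = 1` than Sylow 2-subgroups. -/
theorem card_sylow_two_lt {C : Type*} [Group C] [Finite C] (h4 : Nat.card C % 4 = 2) :
    Nat.card (Sylow 2 C) + 1 ≤ Nat.card {x : C // x ^ 2 = 1} := by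
  classical
  have hgen : ∀ R : Sylow 2 C, ∃ t : C, orderOf t = 2 ∧ zpowers t = (R : Subgroup C) := by
    intro R
    have hRc := card_sylow_two_of_mod_four h4 R
    obtain ⟨t, ht⟩ := exists_prime_orderOf_dvd_card' (G := (R : Subgroup C)) 2 (by rw [hRc])
    have ht' : orderOf (t : C) = 2 := by rw [Subgroup.orderOf_coe, ht]
    exact ⟨t, ht', Subgroup.eq_of_le_of_card_ge (zpowers_le.2 t.2)
      (by rw [hRc, Nat.card_zpowers, ht'])⟩
  choose t ht hz using hgen
  let f : Option (Sylow 2 C) → {x : C // x ^ 2 = 1} := fun o =>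
    o.elim ⟨1, one_pow 2⟩ fun R => ⟨t R, by rw [← ht R, pow_orderOf_eq_one]⟩
  have hne : ∀ R, t R ≠ 1 := fun R h => by
    have := ht R
    rw [h, orderOf_one] at this
    omega
  have hf : Function.Injective f := by
    rintro (_ | R) (_ | R') h
    · rfl
    · exact absurd (congrArg Subtype.val h).symm (hne R')
    · exact absurd (congrArg Subtype.val h) (hne R)
    · have h' : t R = t R' := congrArg Subtype.val h
      exact congrArg some (Sylow.ext ((hz R).symm.trans (by rw [h', hz R'])))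
  have := Nat.card_le_card_of_injective f hf
  rwa [Finite.card_option] at this

omit [Fact p.Prime] in
/-- Every involution commutes with at least four elements. -/
theorem four_dvd_centralizer (h8 : 4 ∣ Nat.card G) {g : G} (hg : orderOf g = 2) :
    4 ∣ Nat.card (centralizer ({g} : Set G)) := by
  obtain ⟨S, hS⟩ := (IsPGroup.of_card (p := 2) (n := 1)
    (by rw [Nat.card_zpowers, hg, pow_one] : Nat.card (zpowers g) = 2 ^ 1)).exists_le_sylow
  have hgS : g ∈ (S : Subgroup G) := hS (Subgroup.mem_zpowers g)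
  have hS4 : 4 ∣ Nat.card (S : Subgroup G) := S.pow_dvd_card_of_pow_dvd_card (n := 2) h8
  set U := (S : Subgroup G) ⊓ centralizer ({g} : Set G) with hU
  obtain ⟨j, hj⟩ := (S.isPGroup'.to_le (inf_le_left : U ≤ S)).exists_card_eq
  have hUd : Nat.card U ∣ Nat.card (centralizer ({g} : Set G)) := Subgroup.card_dvd_of_le inf_le_right
  by_contra hno
  have hj2 : j ≤ 1 := by
    by_contra h
    exact hno (dvd_trans (hj ▸ (pow_dvd_pow 2 (not_le.mp h) : 2 ^ 2 ∣ 2 ^ j)) hUd)
  have hgU : g ∈ U := ⟨hgS, Subgroup.mem_centralizer_singleton_iff.mpr rfl⟩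
  have hUeq : zpowers g = U := by
    refine Subgroup.eq_of_le_of_card_ge (zpowers_le.2 hgU) ?_
    rw [hj, Nat.card_zpowers, hg]
    calc 2 ^ j ≤ 2 ^ 1 := Nat.pow_le_pow_right (by norm_num) hj2
      _ = 2 := pow_one 2
  have hnt : Nontrivial (S : Subgroup G) := by
    rw [← Finite.one_lt_card_iff_nontrivial]
    have := Nat.le_of_dvd Nat.card_pos hS4
    omega
  have hntc := S.isPGroup'.center_nontrivial
  obtain ⟨z, hz⟩ := exists_ne (1 : Subgroup.center (S : Subgroup G))
  have hzc : ∀ s ∈ (S : Subgroup G), s * ((z : (S : Subgroup G)) : G) = ((z : (S : Subgroup G)) : G) * s :=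
    fun s hs => congrArg Subtype.val (Subgroup.mem_center_iff.mp z.2 ⟨s, hs⟩)
  have hzU : ((z : (S : Subgroup G)) : G) ∈ U :=
    ⟨(z : (S : Subgroup G)).2, Subgroup.mem_centralizer_singleton_iff.mpr (hzc g hgS).symm⟩
  rw [← hUeq] at hzU
  have hzg := eq_of_mem_zpowers_two hg hzU fun h =>
    hz (Subtype.ext (Subtype.ext h))
  have hSC : (S : Subgroup G) ≤ centralizer ({g} : Set G) := fun s hs =>
    Subgroup.mem_centralizer_singleton_iff.mpr (hzg ▸ hzc s hs)
  exact hno (hS4.trans (Subgroup.card_dvd_of_le hSC))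

omit [Fact p.Prime] in
/-- A central involution of some Sylow 2-subgroup. -/
theorem exists_two_central (h2 : 2 ∣ Nat.card G) :
    ∃ (z : G) (S : Sylow 2 G), orderOf z = 2 ∧ z ∈ (S : Subgroup G) ∧
      ∀ x ∈ (S : Subgroup G), x * z = z * x := by
  set S : Sylow 2 G := default
  have hnt : Nontrivial (S : Subgroup G) := by
    rw [Subgroup.nontrivial_iff_ne_bot]
    exact S.ne_bot_of_dvd_card h2
  have hntc := S.isPGroup'.center_nontrivial
  obtain ⟨z, hz⟩ := exists_prime_orderOf_dvd_card' (G := Subgroup.center (S : Subgroup G)) 2 (by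
    obtain ⟨k, hk⟩ := (S.isPGroup'.to_subgroup (Subgroup.center (S : Subgroup G))).exists_card_eq
    have h1 : 1 < Nat.card (Subgroup.center (S : Subgroup G)) := Finite.one_lt_card
    rcases k with - | k
    · simp [hk] at h1
    · exact ⟨2 ^ k, by rw [hk, pow_succ']⟩)
  exact ⟨_, S, by rw [Subgroup.orderOf_coe, Subgroup.orderOf_coe, hz], (z : (S : Subgroup G)).2,
    fun x hx => congrArg Subtype.val (Subgroup.mem_center_iff.mp z.2 ⟨x, hx⟩)⟩

end H19.J1Order
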